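import Mathlib
import Groth.Agent.Lib.Lead.QC.DevissageStep
import Groth.Agent.Lib.Lead.QC.QuotTorsion

/-!
# Dévissage with closed subschemes given by ideal sheaves (variant of S0027).
-/

set_option autoImplicit false
universe u
open CategoryTheory CategoryTheory.Limits AlgebraicGeometry TopologicalSpace Opposite

namespace Groth.Agent.H5.DegC

/-- the dévissage principle S0027, where the integral closed subschemes are those cut out by
ideal sheaves. -/
theorem devissage_ideal (X : Scheme.{u}) [IsNoetherian X] [Nonempty X]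
    (P : X.Modules → Prop) (hP : ∀ M N : X.Modules, Nonempty (M ≅ N) → P M → P N)
    (h₁ : ∀ S : ShortComplex X.Modules, S.ShortExact → Coh.IsCoh S.X₁ → Coh.IsCoh S.X₂ →
      Coh.IsCoh S.X₃ → P S.X₁ → P S.X₃ → P S.X₂)
    (h₂ : ∀ (C : X.IdealSheafData), IsIntegral C.subscheme →
      ∀ (I : C.subscheme.Modules) (ι : I ⟶ Coh.structureModule C.subscheme), Mono ι →
        Coh.IsQCoh I → P ((Coh.push C.subschemeι).obj I))
    (M : X.Modules) (hM : Coh.IsCoh M) : P M := by
  classical
  have hP0 : ∀ Z : X.Modules, CategoryTheory.Limits.IsZero Z → P Z := by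
    intro Z hZ
    obtain ⟨x⟩ := ‹Nonempty X›
    let Y : TopologicalSpace.Closeds X := ⟨closure {x}, isClosed_closure⟩
    have hirr : IsIrreducible (Y : Set X) := isIrreducible_singleton.closure
    let O := Coh.structureModule (Groth.Agent.LD.QC.redSub Y)
    have hz : CategoryTheory.Limits.IsZero (CategoryTheory.Limits.kernel (𝟙 O)) :=
      CategoryTheory.Limits.isZero_kernel_of_mono (𝟙 O)
    have hq : (CategoryTheory.Limits.kernel (𝟙 O)).IsQuasicoherent :=
      Groth.Agent.LD.QC.qc_kernel (𝟙 O) inferInstance inferInstance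
    have hp := h₂ (Scheme.IdealSheafData.vanishingIdeal Y)
      (Groth.Agent.LD.QC.isIntegral_redSub Y hirr) (CategoryTheory.Limits.kernel (𝟙 O))
      (CategoryTheory.Limits.kernel.ι (𝟙 O)) inferInstance hq
    have hz' : CategoryTheory.Limits.IsZero
        ((Coh.push (Groth.Agent.LD.QC.redSubι Y)).obj (CategoryTheory.Limits.kernel (𝟙 O))) :=
      (Coh.push (Groth.Agent.LD.QC.redSubι Y)).map_isZero hz
    exact hP _ _ ⟨hz'.iso hZ⟩ hp
  refine Groth.Agent.LD.QC.devissage_master P (fun A B e _ hA => hP A B ⟨e⟩ hA) Set.univ hP0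
    (fun S hS h1 h2 h3 _ p1 p3 => h₁ S hS h1 h2 h3 p1 p3) ?_ M hM (Set.subset_univ _)
  intro Y hYc hYirr _ IH Q hQ hQY
  obtain ⟨ξ, hξ⟩ := QuasiSober.sober hYirr hYc
  have hξcl : closure {ξ} = Y := hξ.def
  have hξY : ξ ∈ Y := hξcl ▸ subset_closure rfl
  have hQ0 : ¬ CategoryTheory.Limits.IsZero Q := by
    intro hz
    have := Groth.Agent.LD.QC.support_eq_empty_of_isZero hz
    rw [hQY] at this
    exact hYirr.nonempty.ne_empty this
  let Yc : TopologicalSpace.Closeds X := ⟨Y, hYc⟩
  let I := Scheme.IdealSheafData.vanishingIdeal Yc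
  have hGc : Coh.IsCoh (ClSub.quotMod I) := Groth.Agent.LD.QC.isCoh_quotMod I
  have hGs : CohB1.support (ClSub.quotMod I) = Y := by
    rw [Groth.Agent.LD.QC.support_quotMod, Scheme.IdealSheafData.coe_support_vanishingIdeal]
    rfl
  obtain ⟨G', ι, ψ, hι, hG', hψ⟩ := Groth.Agent.LD.QC.exists_sub_nonzero_hom (ClSub.quotMod I) Q
    hGc.1 hQ.1 hQ.2 hQ0 (by rw [hQY, hGs])
  haveI := hι
  haveI : G'.IsQuasicoherent := hG'
  have hG'c : Coh.IsCoh G' := Groth.Agent.LD.QC.isCoh_of_mono ι hG' hGc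
  by_cases hk : CategoryTheory.Limits.IsZero (CategoryTheory.Limits.kernel ψ)
  · haveI : Mono ψ := CategoryTheory.Preadditive.mono_of_isZero_kernel ψ hk
    obtain ⟨T, ιT, hιT, hT, ⟨e⟩⟩ := Groth.Agent.LD.QC.exists_ideal_of_sub_quotMod I G' ι
    refine ⟨G', ψ, inferInstance, hG'c, ?_, ?_⟩
    · intro hz
      exact hψ (hz.eq_of_src _ _)
    · exact hP _ _ ⟨e⟩ (h₂ (Scheme.IdealSheafData.vanishingIdeal Yc)
        (Groth.Agent.LD.QC.isIntegral_redSub Yc hYirr) T ιT hιT hT)
  · have hKq : (CategoryTheory.Limits.kernel ψ).IsQuasicoherent :=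
      Groth.Agent.LD.QC.qc_kernel ψ hG' hQ.1
    haveI := hKq
    have hnot := Groth.Agent.LD.QC.notMem_support_cokernel_of_sub_quotMod Yc ξ hξcl
      (CategoryTheory.Limits.kernel ψ) G' (CategoryTheory.Limits.kernel.ι ψ) ι hk
    have hNc : Coh.IsCoh (CategoryTheory.Abelian.image ψ) :=
      Groth.Agent.LD.QC.isCoh_kernel _ hQ (Groth.Agent.LD.QC.isCoh_cokernel ψ hG'c hQ)
    have hsuppN : CohB1.support (CategoryTheory.Abelian.image ψ) =
        CohB1.support (CategoryTheory.Limits.cokernel (CategoryTheory.Limits.kernel.ι ψ)) :=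
      (Groth.Agent.LD.QC.support_eq_of_iso (CategoryTheory.Abelian.coimageIsoImage ψ)).symm
    refine ⟨CategoryTheory.Abelian.image ψ, CategoryTheory.Abelian.image.ι ψ, inferInstance, hNc, ?_, ?_⟩
    · intro hz
      apply hψ
      rw [← CategoryTheory.Abelian.image.fac ψ,
        hz.eq_of_tgt (CategoryTheory.Abelian.factorThruImage ψ) 0, CategoryTheory.Limits.zero_comp]
    · refine IH _ hNc ?_ ?_
      · rw [← hQY]
        exact Groth.Agent.LD.QC.support_subset_of_mono (CategoryTheory.Abelian.image.ι ψ)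
      · intro h
        apply hnot
        rw [← hsuppN, h]
        exact hξY

end Groth.Agent.H5.DegC
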