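import Mathlib
import Groth.Agent.Lib.Lead.CohLES.Basic
import Groth.Agent.Lib.Lead.QC.FreeData
import Groth.Agent.Lib.Lead.QC.ProjFormulaLF

/-!
# Finite decompositions `M ≅ N^n` and Euler characteristics.
-/

set_option autoImplicit false
universe u v w
open CategoryTheory CategoryTheory.Limits AlgebraicGeometry TopologicalSpace Opposite

namespace Groth.Agent.H5.DegC

open Groth.Agent.LD Groth.Agent.LD.QC

/-- a decomposition of `M` as a sum of `n` copies of `N`, in a preadditive category. -/
structure FinDecomp {C : Type v} [Category.{w} C] [Preadditive C] (M N : C) (n : ℕ) where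
  ι : Fin n → (N ⟶ M)
  π : Fin n → (M ⟶ N)
  ι_π : ∀ i j, ι i ≫ π j = if i = j then 𝟙 _ else 0
  total : ∑ i, π i ≫ ι i = 𝟙 M

namespace FinDecomp

variable {C : Type v} [Category.{w} C] [Preadditive C] {D : Type*} [Category D] [Preadditive D]

/-- image under an additive functor. -/
def map {M N : C} {n : ℕ} (d : FinDecomp M N n) (F : C ⥤ D) [F.Additive] :
    FinDecomp (F.obj M) (F.obj N) n where
  ι i := F.map (d.ι i)
  π i := F.map (d.π i)
  ι_π i j := by
    rw [← F.map_comp, d.ι_π]
    split_ifs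
    · exact F.map_id _
    · exact F.map_zero _ _
  total := by
    have : ∀ i : Fin n, F.map (d.π i) ≫ F.map (d.ι i) = F.map (d.π i ≫ d.ι i) := fun i =>
      (F.map_comp _ _).symm
    rw [Finset.sum_congr rfl (fun i _ => this i), ← F.map_sum, d.total, F.map_id]

/-- transport along isomorphisms. -/
def ofIso {M N M' N' : C} {n : ℕ} (d : FinDecomp M N n) (e : M ≅ M') (e' : N ≅ N') :
    FinDecomp M' N' n where
  ι i := e'.inv ≫ d.ι i ≫ e.hom
  π i := e.inv ≫ d.π i ≫ e'.hom
  ι_π i j := by
    simp only [Category.assoc, Iso.hom_inv_id_assoc]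
    rw [← Category.assoc (d.ι i), d.ι_π]
    split_ifs
    · rw [Category.id_comp, Iso.inv_hom_id]
    · rw [zero_comp, comp_zero]
  total := by
    have : ∀ i : Fin n, (e.inv ≫ d.π i ≫ e'.hom) ≫ e'.inv ≫ d.ι i ≫ e.hom =
        e.inv ≫ (d.π i ≫ d.ι i) ≫ e.hom := by
      intro i
      simp only [Category.assoc, Iso.hom_inv_id_assoc]
    rw [Finset.sum_congr rfl (fun i _ => this i), ← Preadditive.comp_sum, ← Preadditive.sum_comp,
      d.total, Category.id_comp, Iso.inv_hom_id]

end FinDecomp

section Scheme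

variable {X : Scheme.{u}}

/-- a finite free decomposition is a decomposition into copies of the structure sheaf. -/
noncomputable def FinDecomp.ofFreeData {Q : X.Modules} {n : ℕ} (d : FreeData Q n) :
    FinDecomp Q (unitMod X) n where
  ι := d.ι
  π := d.π
  ι_π := d.ι_π
  total := d.total

/-- `F ⊗ Q` is a sum of `n` copies of `F` when `Q` is free of rank `n`. -/
noncomputable def FinDecomp.tensor {Q : X.Modules} {n : ℕ} (d : FreeData Q n) (F : X.Modules) :
    FinDecomp (CohB1.tensorMod F Q) F n :=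
  ((FinDecomp.ofFreeData d).map (LT F)).ofIso (Iso.refl _) (SecTwist.unitorR F)

variable (k : Type u) [Field k] [X.Over (Spec (CommRingCat.of k))]

/-- the cohomology of a sum of `n` copies. -/
noncomputable def FinDecomp.HHEquiv {M N : X.Modules} {n : ℕ} (d : FinDecomp M N n) (p : ℕ) :
    Coh.HH X M p ≃ₗ[k] (Fin n → Coh.HH X N p) where
  toFun x j := CL.HHmap k (d.π j) p x
  map_add' x y := by funext j; exact map_add _ _ _
  map_smul' c x := by funext j; exact map_smul _ _ _
  invFun y := ∑ j, CL.HHmap k (d.ι j) p (y j)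
  left_inv x := by
    have h1 : ∀ j, CL.HHmap k (d.ι j) p (CL.HHmap k (d.π j) p x) =
        CL.HHmap k (d.π j ≫ d.ι j) p x := fun j => by
      rw [CL.HHmap_comp]; rfl
    change ∑ j, CL.HHmap k (d.ι j) p (CL.HHmap k (d.π j) p x) = x
    rw [Finset.sum_congr rfl (fun j _ => h1 j)]
    have h2 := congrArg (fun f => f x) (CL.HHmap_sum k Finset.univ (fun j => d.π j ≫ d.ι j) p)
    simp only [LinearMap.sum_apply] at h2
    rw [← h2, d.total, CL.HHmap_id]
    rfl
  right_inv y := by
    funext j
    change CL.HHmap k (d.π j) p (∑ l, CL.HHmap k (d.ι l) p (y l)) = y j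
    rw [map_sum]
    have h1 : ∀ l, CL.HHmap k (d.π j) p (CL.HHmap k (d.ι l) p (y l)) =
        if l = j then y l else 0 := fun l => by
      have : CL.HHmap k (d.π j) p (CL.HHmap k (d.ι l) p (y l)) =
          CL.HHmap k (d.ι l ≫ d.π j) p (y l) := by rw [CL.HHmap_comp]; rfl
      rw [this, d.ι_π]
      split_ifs
      · rw [CL.HHmap_id]; rfl
      · have h0 : CL.HHmap k (0 : N ⟶ N) p = 0 := by
          have := CL.HHmap_add k (0 : N ⟶ N) 0 p
          rw [add_zero] at this
          exact left_eq_add.mp this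
        rw [h0]; rfl
    rw [Finset.sum_congr rfl (fun l _ => h1 l), Finset.sum_ite_eq' Finset.univ j]
    simp

theorem FinDecomp.finrank_HH {M N : X.Modules} {n : ℕ} (d : FinDecomp M N n) (p : ℕ) :
    Module.finrank k (Coh.HH X M p) = n * Module.finrank k (Coh.HH X N p) := by
  rw [(d.HHEquiv k p).finrank_eq]
  unfold Module.finrank
  rw [rank_fun_eq_lift_mul, Cardinal.toNat_mul, Cardinal.toNat_natCast, Cardinal.toNat_lift,
    Fintype.card_fin]

theorem FinDecomp.euler_eq {M N : X.Modules} {n : ℕ} (d : FinDecomp M N n) :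
    Curv2.euler k X M = n * Curv2.euler k X N := by
  unfold Curv2.euler
  have : ∀ i : ℕ, (-1 : ℤ) ^ i * (Module.finrank k (Coh.HH X M i) : ℤ) =
      (n : ℤ) • ((-1 : ℤ) ^ i * (Module.finrank k (Coh.HH X N i) : ℤ)) := by
    intro i
    rw [d.finrank_HH k i]
    push_cast
    rw [smul_eq_mul]
    ring
  rw [finsum_congr this, ← smul_finsum, smul_eq_mul]

end Scheme

end Groth.Agent.H5.DegC
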