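import Mathlib
import Groth.Agent.Lib.Helper5.DegC.FinDecomp
import Groth.Agent.Lib.Helper5.Curve5.AffCrit
import Groth.Agent.Lib.Helper5.Curve3.Comp
import Groth.Agent.Lib.Helper5.Curve2.B
import Groth.Agent.Lib.Helper5.Lim.ModuleLocFreeRank
import Groth.Agent.Lib.Lead.PS.Support
import Groth.Agent.Lib.Lead.QC.SemiLocal2
import Groth.Agent.Lib.Helper3.ConsDim

/-!
# Tensoring a coherent module with zero dimensional support by a finite locally free module.
-/

set_option autoImplicit false
universe u
open CategoryTheory CategoryTheory.Limits AlgebraicGeometry TopologicalSpace Opposite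

namespace Groth.Agent.H5.DegC

open Groth.Agent.LD Groth.Agent.LD.QC Groth.Agent.H5.Curve3

section top

variable {T : Type*} [TopologicalSpace T]

/-- in a `T0` space of dimension `≤ 0` there are no proper specializations. -/
lemma eq_of_specializes_of_dim_le_zero [T0Space T] (hdim : topologicalKrullDim T ≤ 0) {x y : T}
    (h : x ⤳ y) : x = y := by
  by_contra hne
  have h1 := one_le_dim_of_chain h hne
  have : (1 : WithBot ℕ∞) ≤ 0 := h1.trans hdim
  exact absurd this (by decide)

/-- in a `T0` space of dimension `≤ 0` all points are closed. -/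
lemma isClosed_singleton_of_dim_le_zero [T0Space T] (hdim : topologicalKrullDim T ≤ 0) (y : T) :
    IsClosed ({y} : Set T) := by
  rw [← closure_eq_iff_isClosed]
  apply Set.Subset.antisymm _ subset_closure
  intro z hz
  have : y ⤳ z := specializes_iff_mem_closure.mpr hz
  exact (eq_of_specializes_of_dim_le_zero hdim this).symm

end top

/-- a Noetherian scheme of dimension `≤ 0` is affine. -/
theorem isAffine_of_dim_le_zero (Z : Scheme.{u}) [IsNoetherian Z]
    (hdim : topologicalKrullDim Z ≤ 0) : IsAffine Z := by
  apply Curve5.isAffine_of_integral_closed_affine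
  intro W j hj hW
  haveI := hj
  haveI := hW
  haveI : Subsingleton W := by
    refine ⟨fun a b => ?_⟩
    have h : ∀ w : W, w = genericPoint W := by
      intro w
      have h1 : j (genericPoint W) ⤳ j w := (genericPoint_specializes w).map j.continuous
      exact (j.isClosedEmbedding.injective (eq_of_specializes_of_dim_le_zero hdim h1)).symm
    rw [h a, h b]
  exact Groth.Agent.H3.ConsDim.isAffine_of_subsingleton W

/-- a finite locally free module of rank `n` on a Noetherian scheme of dimension `≤ 0` is free. -/
theorem nonempty_freeData_of_dim_le_zero (Z : Scheme.{u}) [IsNoetherian Z]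
    (hdim : topologicalKrullDim Z ≤ 0) (n : ℕ) (E : Z.Modules)
    (hE : FlatMod.IsFinLocFreeOfRank n E) : Nonempty (FreeData E n) := by
  haveI := isAffine_of_dim_le_zero Z hdim
  have hfin : (Set.univ : Set Z).Finite :=
    Curve2.finite_of_isClosed_of_closed_points (X := Z) Set.univ isClosed_univ
      (fun y _ => isClosed_singleton_of_dim_le_zero hdim y)
  obtain ⟨U, -, hUZ, -, ⟨e⟩⟩ := exists_affine_free_nhds_of_finite n E hE Set.univ hfin ⊤
    (isAffineOpen_top Z) (Set.subset_univ _)
  obtain ⟨e'⟩ := freeMod_of_range_subset E U.ι (𝟙 Z) (by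
    rintro _ ⟨z, rfl⟩
    rw [Scheme.Opens.range_ι]
    exact hUZ trivial) n e
  exact ⟨(FreeData.free Z n).ofIso
    (e'.symm ≪≫ Scheme.Modules.restrictFunctorId.app E)⟩

variable {X : Scheme.{u}} [IsNoetherian X]

/-- **the key decomposition**: `F ⊗ E` is a sum of `n` copies of `F` when `F` is coherent with
zero dimensional support and `E` is finite locally free of rank `n`. -/
theorem nonempty_finDecomp_tensor (F : X.Modules) (hF : Coh.IsCoh F)
    (hsupp : topologicalKrullDim (CohB1.support F) ≤ 0) (n : ℕ) (E : X.Modules)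
    (hE : FlatMod.IsFinLocFreeOfRank n E) :
    Nonempty (FinDecomp (CohB1.tensorMod F E) F n) := by
  haveI : F.IsQuasicoherent := hF.1
  let I := QC.annIdeal F hF.2
  let i := I.subschemeι
  have hr : Set.range i = CohB1.support F := by
    rw [I.range_subschemeι]
    exact QC.support_annIdeal F hF.2
  haveI hiso : IsIso ((Scheme.Modules.pullbackPushforwardAdjunction i).unit.app F) := by
    rw [QC.isIso_unit_closedImmersion_iff]
    intro U a ha s
    rw [Scheme.IdealSheafData.ker_subschemeι] at ha
    exact Module.mem_annihilator.mp ha s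
  haveI : IsLocallyNoetherian I.subscheme := LocallyOfFiniteType.isLocallyNoetherian i
  haveI : CompactSpace I.subscheme := i.isClosedEmbedding.compactSpace
  haveI : IsNoetherian I.subscheme := {}
  have hdimZ : topologicalKrullDim I.subscheme ≤ 0 := by
    have h1 : topologicalKrullDim I.subscheme = topologicalKrullDim ↥(Set.range i) :=
      IsHomeomorph.topologicalKrullDim_eq _
        i.isClosedEmbedding.toIsEmbedding.toHomeomorph.isHomeomorph
    rw [h1, hr]
    exact hsupp
  let G := (Scheme.Modules.pullback i).obj F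
  let E' := (Scheme.Modules.pullback i).obj E
  have hE' : FlatMod.IsFinLocFreeOfRank n E' :=
    Groth.Agent.H5.Lim.isFinLocFreeOfRank_pullback i E hE
  obtain ⟨fd⟩ := nonempty_freeData_of_dim_le_zero I.subscheme hdimZ n E' hE'
  let dZ : FinDecomp (CohB1.tensorMod G E') G n := FinDecomp.tensor fd G
  let dX := dZ.map (Scheme.Modules.pushforward i)
  let e₁ : F ≅ (Scheme.Modules.pushforward i).obj G :=
    asIso ((Scheme.Modules.pullbackPushforwardAdjunction i).unit.app F)
  have hE1 : FlatMod.IsFinLocFree E := fun x => by
    obtain ⟨U, hx, e⟩ := hE x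
    exact ⟨U, n, hx, e⟩
  let e₂ : CohB1.tensorMod F E ≅ (Scheme.Modules.pushforward i).obj (CohB1.tensorMod G E') :=
    tensorCommAll F E ≪≫ (LT E).mapIso e₁ ≪≫ (projIsoL i E hE1).app G ≪≫
      (Scheme.Modules.pushforward i).mapIso (tensorCommAll E' G)
  exact ⟨dX.ofIso e₂.symm e₁.symm⟩

end Groth.Agent.H5.DegC
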