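import Mathlib
import Groth.Agent.Lib.Helper5.DegC.Tors
import Groth.Agent.Lib.Helper5.Curve4.Sat2
import Groth.Agent.Lib.Helper5.Curve2.D
import Groth.Agent.Lib.Lead.QC.ProjFormulaLF
import Groth.Agent.Lib.Lead.QC.UnitIso
import Groth.Agent.Lib.Lead.QC.TensorQC
import Groth.Agent.Lib.Lead.PN.ClosedSub
import Groth.Agent.Lib.Lead.PS.Support
import Groth.Agent.S0027

/-!
# `χ(E ⊗ F) = rank(F) deg(E) + rank(E) χ(F)` on an integral proper curve.
-/

set_option autoImplicit false
universe u
open CategoryTheory CategoryTheory.Limits AlgebraicGeometry TopologicalSpace Opposite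

namespace Groth.Agent.H5.DegC

open Groth.Agent.LD Groth.Agent.LD.QC Groth.Agent.H5.Curve4

section top

/-- a quasi-sober space all of whose points are closed has dimension `≤ 0`. -/
lemma dim_le_zero_of_forall_isClosed_singleton {T : Type*} [TopologicalSpace T] [QuasiSober T]
    (h : ∀ x : T, IsClosed ({x} : Set T)) : topologicalKrullDim T ≤ 0 := by
  unfold topologicalKrullDim
  rw [Order.krullDim_nonpos_iff_forall_isMax]
  intro Z W hZW
  obtain ⟨z, hz⟩ := QuasiSober.sober Z.isIrreducible Z.isClosed
  obtain ⟨w, hw⟩ := QuasiSober.sober W.isIrreducible W.isClosed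
  have hZ : (Z : Set T) = {z} := by rw [← hz.def, (h z).closure_eq]
  have hW : (W : Set T) = {w} := by rw [← hw.def, (h w).closure_eq]
  have hzw : z = w := by
    have : z ∈ (W : Set T) := hZW (show z ∈ (Z : Set T) by rw [hZ]; rfl)
    rw [hW] at this
    exact this
  intro x hx
  have hx' : x ∈ (W : Set T) := hx
  rw [hW, ← hzw, ← hZ] at hx'
  exact hx'

end top

section

variable {X : Scheme.{u}} [IsIntegral X]

/-- a coherent torsion module on an integral scheme of dimension `≤ 1` has support of
dimension `≤ 0`. -/
theorem dim_support_le_zero_of_isTors (hdim : topologicalKrullDim X ≤ 1) {T : X.Modules}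
    (hT : Coh.IsCoh T) (htors : IsTors T) : topologicalKrullDim (CohB1.support T) ≤ 0 := by
  have hcl : IsClosed (CohB1.support T) := isClosed_support_of_isCoh hT
  haveI : QuasiSober (CohB1.support T) := hcl.isClosedEmbedding_subtypeVal.quasiSober
  apply dim_le_zero_of_forall_isClosed_singleton
  intro y
  have h1 : IsClosed ({y.1} : Set X) := isClosed_of_isTors hdim htors y.1 y.2
  have h2 : ({y} : Set (CohB1.support T)) = Subtype.val ⁻¹' {y.1} := by
    ext z
    simp only [Set.mem_singleton_iff, Set.mem_preimage]
    exact Subtype.ext_iff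
  rw [h2]
  exact h1.preimage continuous_subtype_val

lemma gdim_iso {F F' : X.Modules} (e : F ≅ F') : gdim F = gdim F' :=
  LinearEquiv.finrank_eq ((DerSch.stalkFunctor X (genericPoint X)).mapIso e).toLinearEquiv

lemma gdim_unit : gdim (unitMod X) = 1 :=
  gdim_of_rank ((isInvertible_iff _).mp (isInvertible_unit X))

theorem isCoh_tensorMod {E F : X.Modules} (hE : Coh.IsCoh E) (hF : Coh.IsCoh F) :
    Coh.IsCoh (CohB1.tensorMod E F) := by
  haveI := hE.1
  haveI := hF.1
  exact ⟨tensorMod_isQuasicoherent _ _, tensorMod_isFiniteType _ _ hE.2 hF.2⟩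

end

variable (k : Type u) [Field k] (X : Scheme.{u}) [X.Over (Spec (CommRingCat.of k))]
  [IsProper (X ↘ Spec (CommRingCat.of k))] [IsIntegral X]

/-- the defect `χ(E ⊗ F) - rank(F) deg(E) - n χ(F)`. -/
noncomputable def delta (n : ℕ) (E F : X.Modules) : ℤ :=
  Curv2.euler k X (CohB1.tensorMod E F) - (gdim F : ℤ) * Curv2.deg k X E n -
    n * Curv2.euler k X F

variable {X}

lemma delta_iso (n : ℕ) (E : X.Modules) {F F' : X.Modules} (e : F ≅ F') :
    delta k X n E F = delta k X n E F' := by
  have h1 : Curv2.euler k X (CohB1.tensorMod E F) = Curv2.euler k X (CohB1.tensorMod E F') :=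
    Curve.euler_iso k X ((LT E).mapIso e)
  unfold delta
  rw [h1, gdim_iso e, Curve.euler_iso k X e]

theorem delta_add (n : ℕ) (E : X.Modules) (hE : FlatMod.IsFinLocFreeOfRank n E)
    (S : ShortComplex X.Modules) (hS : S.ShortExact) (h₁ : Coh.IsCoh S.X₁)
    (h₂ : Coh.IsCoh S.X₂) (h₃ : Coh.IsCoh S.X₃) :
    delta k X n E S.X₂ = delta k X n E S.X₁ + delta k X n E S.X₃ := by
  have hEc := Curve.isCoh_of_rank hE
  haveI : PreservesFiniteLimits (LT E) := preservesFiniteLimits_LT E (Curve.isFinLocFree_of_rank hE)
  have hS' : (S.map (LT E)).ShortExact := hS.map_of_exact (LT E)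
  have e1 := Curve.euler_add k X (S.map (LT E)) hS' (isCoh_tensorMod hEc h₁)
    (isCoh_tensorMod hEc h₂) (isCoh_tensorMod hEc h₃)
  have e2 := Curve.euler_add k X S hS h₁ h₂ h₃
  have e3 := gdim_add S hS h₁ h₃
  change Curv2.euler k X (CohB1.tensorMod E S.X₂) = Curv2.euler k X (CohB1.tensorMod E S.X₁) +
    Curv2.euler k X (CohB1.tensorMod E S.X₃) at e1
  unfold delta
  rw [e1, e2, e3]
  push_cast
  ring

theorem delta_of_isTors (hdim : topologicalKrullDim X ≤ 1) (n : ℕ) (E : X.Modules)
    (hE : FlatMod.IsFinLocFreeOfRank n E) (T : X.Modules) (hT : Coh.IsCoh T) (htors : IsTors T) :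
    delta k X n E T = 0 := by
  haveI : IsNoetherian X := Curve2.isNoetherian_of_proper k X
  have hsupp := dim_support_le_zero_of_isTors hdim hT htors
  obtain ⟨d⟩ := nonempty_finDecomp_tensor T hT hsupp n E hE
  unfold delta
  rw [Curve.euler_iso k X (tensorCommAll E T), d.euler_eq k, gdim_of_isTors htors]
  push_cast
  ring

theorem delta_unit (n : ℕ) (E : X.Modules) : delta k X n E (unitMod X) = 0 := by
  unfold delta
  rw [Curve.euler_iso k X (SecTwist.unitorR E), gdim_unit]
  unfold Curv2.deg
  push_cast
  ring

/-- **the rank–degree formula**. -/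
theorem delta_eq_zero (hdim : topologicalKrullDim X ≤ 1) (n : ℕ) (E : X.Modules)
    (hE : FlatMod.IsFinLocFreeOfRank n E) (F : X.Modules) (hF : Coh.IsCoh F) :
    delta k X n E F = 0 := by
  haveI : IsNoetherian X := Curve2.isNoetherian_of_proper k X
  refine Groth.Agent.S0027.result X (fun F => delta k X n E F = 0) ?_ ?_ ?_ F hF
  · rintro M N ⟨e⟩ h
    rw [← delta_iso k n E e]
    exact h
  · intro S hS h1 h2 h3 p1 p3
    rw [delta_add k n E hE S hS h1 h2 h3, p1, p3, add_zero]
  · intro Z i hi hZ I ι hι hI
    haveI := hi
    haveI := hZ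
    haveI := hι
    haveI : I.IsQuasicoherent := hI
    haveI : IsLocallyNoetherian Z := LocallyOfFiniteType.isLocallyNoetherian i
    have hIc : Coh.IsCoh I := isCoh_of_mono ι hI (Groth.Agent.LD.PF.isCoh_unitMod Z)
    have hMc : Coh.IsCoh ((Coh.push i).obj I) :=
      ⟨QC.qc_pushforward i I, QC.isFiniteType_pushforward_of_isFinite i I hIc.2⟩
    by_cases hη : genericPoint X ∈ Set.range i
    · have hsurj : Surjective i := by
        constructor
        rw [← Set.range_eq_univ]
        have hc : IsClosed (Set.range i) := i.isClosedEmbedding.isClosed_range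
        have h1 : closure {genericPoint X} ⊆ Set.range i :=
          hc.closure_subset_iff.mpr (Set.singleton_subset_iff.mpr hη)
        rw [(genericPoint_spec X).def] at h1
        exact Set.univ_subset_iff.mp h1
      haveI : IsIso i := isIso_of_isClosedImmersion_of_surjective i
      have hu : IsIso (toPushUnit i) := by
        rw [Scheme.Modules.Hom.isIso_iff_isIso_app]
        intro U
        rw [ConcreteCategory.isIso_iff_bijective]
        exact ConcreteCategory.bijective_of_isIso (i.app U)
      let j : (Coh.push i).obj I ⟶ unitMod X := (Coh.push i).map ι ≫ inv (toPushUnit i)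
      haveI : Mono j := mono_comp _ _
      have hQc : Coh.IsCoh (cokernel j) := isCoh_cokernel j hMc (Groth.Agent.LD.PF.isCoh_unitMod X)
      let S : ShortComplex X.Modules := ShortComplex.mk j (cokernel.π j) (cokernel.condition j)
      have hS : S.ShortExact :=
        { exact := ShortComplex.exact_cokernel j
          mono_f := inferInstanceAs (Mono j)
          epi_g := inferInstanceAs (Epi (cokernel.π j)) }
      have hadd := delta_add k n E hE S hS hMc (Groth.Agent.LD.PF.isCoh_unitMod X) hQc
      change delta k X n E (unitMod X) = delta k X n E ((Coh.push i).obj I) +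
        delta k X n E (cokernel j) at hadd
      rw [delta_unit] at hadd
      by_cases htors : IsTors (cokernel j)
      · rw [delta_of_isTors k hdim n E hE _ hQc htors, add_zero] at hadd
        exact hadd.symm
      · apply delta_of_isTors k hdim n E hE _ hMc
        have g := gdim_add S hS hMc hQc
        change gdim (unitMod X) = gdim ((Coh.push i).obj I) + gdim (cokernel j) at g
        rw [gdim_unit] at g
        letI : Field (X.presheaf.stalk (genericPoint X)) :=
          inferInstanceAs (Field X.functionField)
        haveI := hQc.1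
        haveI := hMc.1
        haveI : Module.Finite (X.presheaf.stalk (genericPoint X))
            ((cokernel j).presheaf.stalk (genericPoint X)) :=
          Groth.Agent.H1.CohLen.finite_stalk _ hQc.2 _
        haveI : Module.Finite (X.presheaf.stalk (genericPoint X))
            (((Coh.push i).obj I).presheaf.stalk (genericPoint X)) :=
          Groth.Agent.H1.CohLen.finite_stalk _ hMc.2 _
        have hpos : 0 < gdim (cokernel j) := by
          unfold gdim
          rw [Module.finrank_pos_iff]
          exact not_subsingleton_iff_nontrivial.mp htors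
        have h0 : gdim ((Coh.push i).obj I) = 0 := by omega
        unfold IsTors
        unfold gdim at h0
        exact Module.finrank_zero_iff.mp h0
    · apply delta_of_isTors k hdim n E hE _ hMc
      unfold IsTors
      by_contra h
      exact hη (Groth.Agent.LD.PS.support_pushforward_subset i I h)

end Groth.Agent.H5.DegC
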