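import Mathlib
import Groth.Agent.Lib.Helper5.DegC.RankDeg
import Groth.Agent.Lib.Helper2.SuppTensor

/-!
# Dévissage on an integral Noetherian scheme: additive functions killing torsion and `O_X`.
-/

set_option autoImplicit false
universe u
open CategoryTheory CategoryTheory.Limits AlgebraicGeometry TopologicalSpace Opposite

namespace Groth.Agent.H5.DegC

open Groth.Agent.LD Groth.Agent.LD.QC Groth.Agent.H5.Curve4

variable {X : Scheme.{u}} [IsIntegral X]

/-- **Dévissage on an integral Noetherian scheme**: an additive integer valued function on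
coherent modules that kills torsion modules and the structure sheaf is zero. -/
theorem integral_devissage [IsNoetherian X] (φ : X.Modules → ℤ)
    (hiso : ∀ F F' : X.Modules, (F ≅ F') → φ F = φ F')
    (hadd : ∀ S : ShortComplex X.Modules, S.ShortExact → Coh.IsCoh S.X₁ → Coh.IsCoh S.X₂ →
      Coh.IsCoh S.X₃ → φ S.X₂ = φ S.X₁ + φ S.X₃)
    (htors : ∀ T : X.Modules, Coh.IsCoh T → IsTors T → φ T = 0)
    (hunit : φ (unitMod X) = 0) (F : X.Modules) (hF : Coh.IsCoh F) : φ F = 0 := by
  refine Groth.Agent.S0027.result X (fun F => φ F = 0) ?_ ?_ ?_ F hF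
  · rintro M N ⟨e⟩ h
    rw [← hiso _ _ e]
    exact h
  · intro S hS h1 h2 h3 p1 p3
    rw [hadd S hS h1 h2 h3, p1, p3, add_zero]
  · intro Z i hi hZ I ι hι hI
    haveI := hi
    haveI := hZ
    haveI := hι
    haveI : I.IsQuasicoherent := hI
    haveI : IsLocallyNoetherian Z := LocallyOfFiniteType.isLocallyNoetherian i
    have hIc : Coh.IsCoh I := isCoh_of_mono ι hI (Groth.Agent.LD.PF.isCoh_unitMod Z)
    have hMc : Coh.IsCoh ((Coh.push i).obj I) :=
      ⟨QC.qc_pushforward i I, QC.isFiniteType_pushforward_of_isFinite i I hIc.2⟩
    by_cases hη : genericPoint X ∈ Set.range i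
    · have hsurj : Surjective i := by
        constructor
        rw [← Set.range_eq_univ]
        have hc : IsClosed (Set.range i) := i.isClosedEmbedding.isClosed_range
        have h1 : closure {genericPoint X} ⊆ Set.range i :=
          hc.closure_subset_iff.mpr (Set.singleton_subset_iff.mpr hη)
        rw [(genericPoint_spec X).def] at h1
        exact Set.univ_subset_iff.mp h1
      haveI : IsIso i := isIso_of_isClosedImmersion_of_surjective i
      have hu : IsIso (toPushUnit i) := by
        rw [Scheme.Modules.Hom.isIso_iff_isIso_app]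
        intro U
        rw [ConcreteCategory.isIso_iff_bijective]
        exact ConcreteCategory.bijective_of_isIso (i.app U)
      let j : (Coh.push i).obj I ⟶ unitMod X := (Coh.push i).map ι ≫ inv (toPushUnit i)
      haveI : Mono j := mono_comp _ _
      have hQc : Coh.IsCoh (cokernel j) := isCoh_cokernel j hMc (Groth.Agent.LD.PF.isCoh_unitMod X)
      let S : ShortComplex X.Modules := ShortComplex.mk j (cokernel.π j) (cokernel.condition j)
      have hS : S.ShortExact :=
        { exact := ShortComplex.exact_cokernel j
          mono_f := inferInstanceAs (Mono j)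
          epi_g := inferInstanceAs (Epi (cokernel.π j)) }
      have hadd' := hadd S hS hMc (Groth.Agent.LD.PF.isCoh_unitMod X) hQc
      change φ (unitMod X) = φ ((Coh.push i).obj I) + φ (cokernel j) at hadd'
      rw [hunit] at hadd'
      by_cases htors' : IsTors (cokernel j)
      · rw [htors _ hQc htors', add_zero] at hadd'
        exact hadd'.symm
      · apply htors _ hMc
        have g := gdim_add S hS hMc hQc
        change gdim (unitMod X) = gdim ((Coh.push i).obj I) + gdim (cokernel j) at g
        rw [gdim_unit] at g
        letI : Field (X.presheaf.stalk (genericPoint X)) :=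
          inferInstanceAs (Field X.functionField)
        haveI := hQc.1
        haveI := hMc.1
        haveI : Module.Finite (X.presheaf.stalk (genericPoint X))
            ((cokernel j).presheaf.stalk (genericPoint X)) :=
          Groth.Agent.H1.CohLen.finite_stalk _ hQc.2 _
        haveI : Module.Finite (X.presheaf.stalk (genericPoint X))
            (((Coh.push i).obj I).presheaf.stalk (genericPoint X)) :=
          Groth.Agent.H1.CohLen.finite_stalk _ hMc.2 _
        have hpos : 0 < gdim (cokernel j) := by
          unfold gdim
          rw [Module.finrank_pos_iff]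
          exact not_subsingleton_iff_nontrivial.mp htors'
        have h0 : gdim ((Coh.push i).obj I) = 0 := by omega
        unfold IsTors
        unfold gdim at h0
        exact Module.finrank_zero_iff.mp h0
    · apply htors _ hMc
      unfold IsTors
      by_contra h
      exact hη (Groth.Agent.LD.PS.support_pushforward_subset i I h)

/-- tensoring with a coherent module preserves torsion modules. -/
lemma isTors_tensorMod {V T : X.Modules} (hV : Coh.IsCoh V) (hT : Coh.IsCoh T) (h : IsTors T) :
    IsTors (CohB1.tensorMod V T) := by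
  haveI := hV.1
  haveI := hT.1
  unfold IsTors
  by_contra hc
  exact ((Groth.Agent.H2.SuppTensor.support_tensorMod V T hV.2 hT.2 _).mp hc).2 h

/-- the generic rank of `V ⊗ G` for `V` locally free of rank `m`. -/
theorem gdim_tensorMod [IsNoetherian X] (m : ℕ) (V : X.Modules)
    (hV : FlatMod.IsFinLocFreeOfRank m V) (G : X.Modules) (hG : Coh.IsCoh G) :
    gdim (CohB1.tensorMod V G) = m * gdim G := by
  have hVc := Curve.isCoh_of_rank hV
  haveI : PreservesFiniteLimits (LT V) := preservesFiniteLimits_LT V (Curve.isFinLocFree_of_rank hV)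
  have key := integral_devissage (X := X)
    (fun G => (gdim (CohB1.tensorMod V G) : ℤ) - m * gdim G) ?_ ?_ ?_ ?_ G hG
  · have key' : (gdim (CohB1.tensorMod V G) : ℤ) - m * gdim G = 0 := key
    have : (gdim (CohB1.tensorMod V G) : ℤ) = ((m * gdim G : ℕ) : ℤ) := by
      push_cast; linarith
    exact_mod_cast this
  · intro F F' e
    have h1 : gdim (CohB1.tensorMod V F) = gdim (CohB1.tensorMod V F') := gdim_iso ((LT V).mapIso e)
    change (gdim (CohB1.tensorMod V F) : ℤ) - m * gdim F = (gdim (CohB1.tensorMod V F') : ℤ) - m * gdim F'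
    rw [h1, gdim_iso e]
  · intro S hS h1 h2 h3
    have hS' : (S.map (LT V)).ShortExact := hS.map_of_exact (LT V)
    have e1 := gdim_add (S.map (LT V)) hS' (isCoh_tensorMod hVc h1) (isCoh_tensorMod hVc h3)
    have e2 := gdim_add S hS h1 h3
    change gdim (CohB1.tensorMod V S.X₂) = gdim (CohB1.tensorMod V S.X₁) +
      gdim (CohB1.tensorMod V S.X₃) at e1
    change (gdim (CohB1.tensorMod V S.X₂) : ℤ) - m * gdim S.X₂ =
      ((gdim (CohB1.tensorMod V S.X₁) : ℤ) - m * gdim S.X₁) +
        ((gdim (CohB1.tensorMod V S.X₃) : ℤ) - m * gdim S.X₃)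
    rw [e1, e2]
    push_cast
    ring
  · intro T hT htors
    change (gdim (CohB1.tensorMod V T) : ℤ) - m * gdim T = 0
    rw [gdim_of_isTors htors, gdim_of_isTors (isTors_tensorMod hVc hT htors)]
    simp
  · change (gdim (CohB1.tensorMod V (unitMod X)) : ℤ) - m * gdim (unitMod X) = 0
    rw [gdim_iso (SecTwist.unitorR V), gdim_unit, gdim_of_rank hV]
    simp

end Groth.Agent.H5.DegC
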