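import Mathlib
import Groth.Agent.Lib.Helper5.DegC.IntPrinciple
import Groth.Agent.Lib.Lead.CohLES.PushEquiv

/-!
# Euler characteristics along closed immersions.
-/

set_option autoImplicit false
universe u
open CategoryTheory CategoryTheory.Limits AlgebraicGeometry TopologicalSpace Opposite

namespace Groth.Agent.H5.DegC

open Groth.Agent.LD Groth.Agent.LD.QC Groth.Agent.H5.Curve4

variable (k : Type u) [Field k] {X Z : Scheme.{u}} [X.Over (Spec (CommRingCat.of k))]
  (i : Z ⟶ X) [IsClosedImmersion i]

/-- the induced structure over `k` on the source. -/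
@[reducible] noncomputable def overOf : Z.Over (Spec (CommRingCat.of k)) :=
  ⟨i ≫ (X ↘ Spec (CommRingCat.of k))⟩

/-- `χ(X, i_* G) = χ(Z, G)` for a closed immersion `i`. -/
theorem euler_push (G : Z.Modules) :
    Curv2.euler k X ((Scheme.Modules.pushforward i).obj G) =
      @Curv2.euler k _ Z (overOf k i) G := by
  letI : Z.Over (Spec (CommRingCat.of k)) := overOf k i
  haveI : i.IsOver (Spec (CommRingCat.of k)) := ⟨rfl⟩
  unfold Curv2.euler
  refine finsum_congr (fun p => ?_)
  rw [(CL.HHpushEquiv i k G p).finrank_eq]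

/-- `χ(X, E ⊗ i_* G) = χ(Z, i^* E ⊗ G)` for `E` finite locally free. -/
theorem euler_tensor_push (E : X.Modules) (hE : FlatMod.IsFinLocFree E) (G : Z.Modules) :
    Curv2.euler k X (CohB1.tensorMod E ((Scheme.Modules.pushforward i).obj G)) =
      @Curv2.euler k _ Z (overOf k i) (CohB1.tensorMod ((Scheme.Modules.pullback i).obj E) G) := by
  have h := Curve.euler_iso k X ((projIsoL i E hE).app G)
  change Curv2.euler k X (CohB1.tensorMod E ((Scheme.Modules.pushforward i).obj G)) = _ at h
  rw [h]
  exact euler_push k i _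

end Groth.Agent.H5.DegC
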