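import Mathlib
import Groth.Agent.Lib.Helper5.DegC.PushEuler
import Groth.Agent.Lib.Helper5.Lim.ModuleLocFreeRank

/-!
# `deg(E ⊗ V) = n deg V + m deg E` on a proper scheme of dimension `≤ 1`.
-/

set_option autoImplicit false
universe u
open CategoryTheory CategoryTheory.Limits AlgebraicGeometry TopologicalSpace Opposite

namespace Groth.Agent.H5.DegC

open Groth.Agent.LD Groth.Agent.LD.QC Groth.Agent.H5.Curve4

variable (k : Type u) [Field k] (X : Scheme.{u}) [X.Over (Spec (CommRingCat.of k))]

/-- `χ(E ⊗ F) - n χ(F)`. -/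
noncomputable def del (n : ℕ) (E F : X.Modules) : ℤ :=
  Curv2.euler k X (CohB1.tensorMod E F) - n * Curv2.euler k X F

variable {X}

lemma del_iso (n : ℕ) (E : X.Modules) {F F' : X.Modules} (e : F ≅ F') :
    del k X n E F = del k X n E F' := by
  have h1 : Curv2.euler k X (CohB1.tensorMod E F) = Curv2.euler k X (CohB1.tensorMod E F') :=
    Curve.euler_iso k X ((LT E).mapIso e)
  unfold del
  rw [h1, Curve.euler_iso k X e]

/-- the behaviour of `del` under closed immersions. -/
theorem del_push {Z : Scheme.{u}} (i : Z ⟶ X) [IsClosedImmersion i] (n : ℕ) (E : X.Modules)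
    (hE : FlatMod.IsFinLocFree E) (G : Z.Modules) :
    del k X n E ((Scheme.Modules.pushforward i).obj G) =
      @del k _ Z (overOf k i) n ((Scheme.Modules.pullback i).obj E) G := by
  unfold del
  rw [euler_tensor_push k i E hE G, euler_push k i G]

/-- all Euler characteristics on the empty scheme vanish. -/
lemma euler_eq_zero_of_isEmpty [IsEmpty X] (M : X.Modules) : Curv2.euler k X M = 0 := by
  apply Curve.euler_of_isZero
  apply isZero_of_forall_sections
  intro U s
  apply section_eq_zero_of_germ
  intro y _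
  exact (IsEmpty.false y).elim

theorem isCoh_tensorMod' {E F : X.Modules} (hE : Coh.IsCoh E) (hF : Coh.IsCoh F) :
    Coh.IsCoh (CohB1.tensorMod E F) := by
  haveI := hE.1
  haveI := hF.1
  exact ⟨tensorMod_isQuasicoherent _ _, tensorMod_isFiniteType _ _ hE.2 hF.2⟩

variable [IsProper (X ↘ Spec (CommRingCat.of k))]

theorem del_add (n : ℕ) (E : X.Modules) (hE : FlatMod.IsFinLocFreeOfRank n E)
    (S : ShortComplex X.Modules) (hS : S.ShortExact) (h₁ : Coh.IsCoh S.X₁)
    (h₂ : Coh.IsCoh S.X₂) (h₃ : Coh.IsCoh S.X₃) :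
    del k X n E S.X₂ = del k X n E S.X₁ + del k X n E S.X₃ := by
  have hEc := Curve.isCoh_of_rank hE
  haveI : PreservesFiniteLimits (LT E) := preservesFiniteLimits_LT E (Curve.isFinLocFree_of_rank hE)
  have hS' : (S.map (LT E)).ShortExact := hS.map_of_exact (LT E)
  have e1 := Curve.euler_add k X (S.map (LT E)) hS' (isCoh_tensorMod' hEc h₁)
    (isCoh_tensorMod' hEc h₂) (isCoh_tensorMod' hEc h₃)
  have e2 := Curve.euler_add k X S hS h₁ h₂ h₃
  change Curv2.euler k X (CohB1.tensorMod E S.X₂) = Curv2.euler k X (CohB1.tensorMod E S.X₁) +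
    Curv2.euler k X (CohB1.tensorMod E S.X₃) at e1
  unfold del
  rw [e1, e2]
  ring

/-- on an integral proper scheme of dimension `≤ 1`, `del = rank · deg`. -/
theorem del_eq_of_integral [IsIntegral X] (hdim : topologicalKrullDim X ≤ 1) (n : ℕ)
    (E : X.Modules) (hE : FlatMod.IsFinLocFreeOfRank n E) (F : X.Modules) (hF : Coh.IsCoh F) :
    del k X n E F = (gdim F : ℤ) * Curv2.deg k X E n := by
  have h := delta_eq_zero k hdim n E hE F hF
  unfold delta at h
  unfold del
  linarith

/-- **Key formula**: `del_E (V ⊗ F) = m · del_E (F)` for `V` locally free of rank `m`. -/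
theorem del_tensor (hdim : topologicalKrullDim X ≤ 1) (n m : ℕ) (E V : X.Modules)
    (hE : FlatMod.IsFinLocFreeOfRank n E) (hV : FlatMod.IsFinLocFreeOfRank m V)
    (F : X.Modules) (hF : Coh.IsCoh F) :
    del k X n E (CohB1.tensorMod V F) = m * del k X n E F := by
  rcases isEmpty_or_nonempty X with he | hne
  · unfold del
    simp only [euler_eq_zero_of_isEmpty k]
    ring
  haveI : IsNoetherian X := Curve2.isNoetherian_of_proper k X
  have hVc := Curve.isCoh_of_rank hV
  haveI : PreservesFiniteLimits (LT V) := preservesFiniteLimits_LT V (Curve.isFinLocFree_of_rank hV)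
  refine Groth.Agent.S0027.result X
    (fun F => del k X n E (CohB1.tensorMod V F) = m * del k X n E F) ?_ ?_ ?_ F hF
  · rintro M N ⟨e⟩ h
    have h1 : del k X n E (CohB1.tensorMod V M) = del k X n E (CohB1.tensorMod V N) :=
      del_iso k n E ((LT V).mapIso e)
    change del k X n E (CohB1.tensorMod V N) = m * del k X n E N
    rw [← h1, ← del_iso k n E e]
    exact h
  · intro S hS h1 h2 h3 p1 p3
    have hS' : (S.map (LT V)).ShortExact := hS.map_of_exact (LT V)
    have e1 := del_add k n E hE (S.map (LT V)) hS' (isCoh_tensorMod' hVc h1)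
      (isCoh_tensorMod' hVc h2) (isCoh_tensorMod' hVc h3)
    change del k X n E (CohB1.tensorMod V S.X₂) = del k X n E (CohB1.tensorMod V S.X₁) +
      del k X n E (CohB1.tensorMod V S.X₃) at e1
    change del k X n E (CohB1.tensorMod V S.X₂) = m * del k X n E S.X₂
    rw [e1, del_add k n E hE S hS h1 h2 h3, p1, p3]
    ring
  · intro Z i hi hZ I ι hι hI
    haveI := hi
    haveI := hZ
    haveI := hι
    haveI : I.IsQuasicoherent := hI
    letI : Z.Over (Spec (CommRingCat.of k)) := overOf k i
    haveI : IsProper (Z ↘ Spec (CommRingCat.of k)) :=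
      inferInstanceAs (IsProper (i ≫ (X ↘ Spec (CommRingCat.of k))))
    haveI : IsNoetherian Z := Curve2.isNoetherian_of_proper k Z
    have hIc : Coh.IsCoh I := isCoh_of_mono ι hI (Groth.Agent.LD.PF.isCoh_unitMod Z)
    have hdimZ : topologicalKrullDim Z ≤ 1 :=
      (i.isClosedEmbedding.isInducing.topologicalKrullDim_le).trans hdim
    have hE' := Groth.Agent.H5.Lim.isFinLocFreeOfRank_pullback i E hE
    have hV' := Groth.Agent.H5.Lim.isFinLocFreeOfRank_pullback i V hV
    have hV'c := Curve.isCoh_of_rank hV'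
    have a1 : del k X n E (CohB1.tensorMod V ((Coh.push i).obj I)) =
        del k X n E ((Coh.push i).obj (CohB1.tensorMod ((Scheme.Modules.pullback i).obj V) I)) :=
      del_iso k n E ((projIsoL i V (Curve.isFinLocFree_of_rank hV)).app I)
    change del k X n E (CohB1.tensorMod V ((Coh.push i).obj I)) =
      m * del k X n E ((Coh.push i).obj I)
    rw [a1, del_push k i n E (Curve.isFinLocFree_of_rank hE),
      del_push k i n E (Curve.isFinLocFree_of_rank hE),
      del_eq_of_integral k hdimZ n _ hE' _ (isCoh_tensorMod hV'c hIc),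
      del_eq_of_integral k hdimZ n _ hE' _ hIc, gdim_tensorMod m _ hV' I hIc]
    push_cast
    ring

/-- **S7637**: `deg(E ⊗ V) = n deg V + m deg E`. -/
theorem deg_tensorMod (hdim : topologicalKrullDim X ≤ 1) (n m : ℕ) (E V : X.Modules)
    (hE : FlatMod.IsFinLocFreeOfRank n E) (hV : FlatMod.IsFinLocFreeOfRank m V) :
    Curv2.deg k X (CohB1.tensorMod E V) (n * m) =
      n * Curv2.deg k X V m + m * Curv2.deg k X E n := by
  have h := del_tensor k hdim n m E V hE hV (unitMod X) (Groth.Agent.LD.PF.isCoh_unitMod X)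
  rw [del_iso k n E (SecTwist.unitorR V)] at h
  unfold del at h
  rw [Curve.euler_iso k X (SecTwist.unitorR E)] at h
  unfold Curv2.deg
  push_cast
  linarith

end Groth.Agent.H5.DegC
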