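import Mathlib
import Groth.Agent.Lib.Helper5.DegC.TensorDeg
import Groth.Agent.Lib.Helper5.DegC.DevIdeal

/-!
# Degrees on proper schemes of dimension `≤ 1` via the integral closed subschemes.
-/

set_option autoImplicit false
universe u
open CategoryTheory CategoryTheory.Limits AlgebraicGeometry TopologicalSpace Opposite

namespace Groth.Agent.H5.DegC

open Groth.Agent.LD Groth.Agent.LD.QC Groth.Agent.H5.Curve4

lemma le_zero_of_le_one_of_ne {x : WithBot ℕ∞} (h : x ≤ 1) (hne : x ≠ 1) : x ≤ 0 := by
  induction x using WithBot.recBotCoe with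
  | bot => exact bot_le
  | coe n =>
    have h1 : n ≤ 1 := by exact_mod_cast h
    have h2 : n ≠ 1 := fun hh => hne (by rw [hh]; rfl)
    have h3 : n < 1 := lt_of_le_of_ne h1 h2
    have h4 : n = 0 := Order.lt_one_iff.mp h3
    rw [h4]
    rfl

variable (k : Type u) [Field k] {X : Scheme.{u}} [X.Over (Spec (CommRingCat.of k))]
  [IsProper (X ↘ Spec (CommRingCat.of k))]

/-- the degree of a finite locally free module on a proper scheme of dimension `≤ 0` is zero. -/
theorem deg_eq_zero_of_dim_le_zero (hdim : topologicalKrullDim X ≤ 0) (n : ℕ) (E : X.Modules)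
    (hE : FlatMod.IsFinLocFreeOfRank n E) : Curv2.deg k X E n = 0 := by
  haveI : IsNoetherian X := Curve2.isNoetherian_of_proper k X
  obtain ⟨fd⟩ := nonempty_freeData_of_dim_le_zero X hdim n E hE
  have h := (FinDecomp.ofFreeData fd).euler_eq k
  unfold Curv2.deg
  rw [h]
  ring

/-- the topological dimension of a closed subscheme is that of its support. -/
lemma dim_subscheme_eq (C : X.IdealSheafData) :
    topologicalKrullDim C.subscheme = topologicalKrullDim (C.support : Set X) := by
  have h1 : topologicalKrullDim C.subscheme = topologicalKrullDim ↥(Set.range C.subschemeι) :=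
    IsHomeomorph.topologicalKrullDim_eq _
      C.subschemeι.isClosedEmbedding.toIsEmbedding.toHomeomorph.isHomeomorph
  rw [h1, C.range_subschemeι]

/-- the degree of the restriction to a closed subscheme, as `del` of the quotient module. -/
theorem deg_restrict_eq (C : X.IdealSheafData) (n : ℕ) (E : X.Modules)
    (hE : FlatMod.IsFinLocFree E) :
    @Curv2.deg k _ C.subscheme (overOf k C.subschemeι)
        ((Scheme.Modules.pullback C.subschemeι).obj E) n =
      Curv2.euler k X (CohB1.tensorMod (ClSub.quotMod C) E) -
        n * Curv2.euler k X (ClSub.quotMod C) := by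
  letI : C.subscheme.Over (Spec (CommRingCat.of k)) := overOf k C.subschemeι
  have h1 := del_push k C.subschemeι n E hE (unitMod C.subscheme)
  unfold del at h1
  rw [Curve.euler_iso k C.subscheme (SecTwist.unitorR _)] at h1
  unfold Curv2.deg
  rw [← h1, Curve.euler_iso k X (tensorCommAll (ClSub.quotMod C) E)]

/-- **nonnegativity**: if `L` has nonnegative degree on every integral closed subscheme of
dimension one, then `χ(L ⊗ F) - χ(F) ≥ 0` for all coherent `F`. -/
theorem del_nonneg_of_nef (hdim : topologicalKrullDim X ≤ 1) (L : X.Modules)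
    (hL : PicF.IsInvertible L)
    (hnef : ∀ C : X.IdealSheafData, IsIntegral C.subscheme →
      topologicalKrullDim (C.support : Set X) = 1 →
        0 ≤ Curv2.euler k X (CohB1.tensorMod (ClSub.quotMod C) L) -
          Curv2.euler k X (ClSub.quotMod C))
    [Nonempty X] (F : X.Modules) (hF : Coh.IsCoh F) : 0 ≤ del k X 1 L F := by
  haveI : IsNoetherian X := Curve2.isNoetherian_of_proper k X
  have hL1 : FlatMod.IsFinLocFreeOfRank 1 L := (isInvertible_iff L).mp hL
  refine devissage_ideal X (fun F => 0 ≤ del k X 1 L F) ?_ ?_ ?_ F hF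
  · rintro M N ⟨e⟩ h
    change 0 ≤ del k X 1 L N
    rw [← del_iso k 1 L e]
    exact h
  · intro S hS h1 h2 h3 p1 p3
    change 0 ≤ del k X 1 L S.X₂
    rw [del_add k 1 L hL1 S hS h1 h2 h3]
    exact add_nonneg p1 p3
  · intro C hC I ι hι hI
    haveI := hC
    haveI := hι
    haveI : I.IsQuasicoherent := hI
    letI : C.subscheme.Over (Spec (CommRingCat.of k)) := overOf k C.subschemeι
    haveI : IsProper (C.subscheme ↘ Spec (CommRingCat.of k)) :=
      inferInstanceAs (IsProper (C.subschemeι ≫ (X ↘ Spec (CommRingCat.of k))))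
    haveI : IsNoetherian C.subscheme := Curve2.isNoetherian_of_proper k C.subscheme
    have hIc : Coh.IsCoh I := isCoh_of_mono ι hI (Groth.Agent.LD.PF.isCoh_unitMod C.subscheme)
    have hdimZ : topologicalKrullDim C.subscheme ≤ 1 :=
      (C.subschemeι.isClosedEmbedding.isInducing.topologicalKrullDim_le).trans hdim
    have hL' := Groth.Agent.H5.Lim.isFinLocFreeOfRank_pullback C.subschemeι L hL1
    change 0 ≤ del k X 1 L ((Coh.push C.subschemeι).obj I)
    rw [del_push k C.subschemeι 1 L (Curve.isFinLocFree_of_rank hL1),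
      del_eq_of_integral k hdimZ 1 _ hL' _ hIc]
    apply mul_nonneg (Int.natCast_nonneg _)
    by_cases hd : topologicalKrullDim (C.support : Set X) = 1
    · rw [deg_restrict_eq k C 1 L (Curve.isFinLocFree_of_rank hL1)]
      have := hnef C hC hd
      push_cast
      linarith
    · have hd0 : topologicalKrullDim C.subscheme ≤ 0 := by
        apply le_zero_of_le_one_of_ne hdimZ
        rw [dim_subscheme_eq]
        exact hd
      rw [deg_eq_zero_of_dim_le_zero k hd0 1 _ hL']

/-- **S17276**. -/
theorem deg_nonneg_of_nef (hdim : topologicalKrullDim X ≤ 1) (L : X.Modules)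
    (hL : PicF.IsInvertible L)
    (hnef : ∀ C : X.IdealSheafData, IsIntegral C.subscheme →
      topologicalKrullDim (C.support : Set X) = 1 →
        0 ≤ Curv2.euler k X (CohB1.tensorMod (ClSub.quotMod C) L) -
          Curv2.euler k X (ClSub.quotMod C)) : 0 ≤ Curv2.deg k X L 1 := by
  rcases isEmpty_or_nonempty X with he | hne
  · unfold Curv2.deg
    simp only [euler_eq_zero_of_isEmpty k]
    simp
  have h := del_nonneg_of_nef k hdim L hL hnef (unitMod X) (Groth.Agent.LD.PF.isCoh_unitMod X)
  unfold del at h
  rw [Curve.euler_iso k X (SecTwist.unitorR L)] at h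
  unfold Curv2.deg
  exact h

end Groth.Agent.H5.DegC
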