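import Mathlib
import Groth.Agent.Lib.Helper5.DegC.Nef
import Groth.Agent.Lib.Lead.QC.PullInv

/-!
# The intersection number `(L · Z)` for `dim Z ≤ 1` is the degree of `L|_Z`.
-/

set_option autoImplicit false
universe u
open CategoryTheory CategoryTheory.Limits AlgebraicGeometry TopologicalSpace Opposite

namespace Groth.Agent.H5.DegC

open Groth.Agent.LD Groth.Agent.LD.QC Groth.Agent.H5.Curve4

section poly

/-- a polynomial in one variable agreeing with an affine function on the naturals. -/
theorem coeff_one_of_eval_nat (P : MvPolynomial (Fin 1) ℚ) (a b : ℚ)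
    (h : ∀ n : Fin 1 → ℕ, MvPolynomial.eval (fun i => (n i : ℚ)) P = a * (n 0 : ℚ) + b) :
    MvPolynomial.coeff (Finsupp.equivFunOnFinite.symm fun _ : Fin 1 => 1) P = a := by
  have hP : P = MvPolynomial.C a * MvPolynomial.X 0 + MvPolynomial.C b := by
    apply MvPolynomial.funext_set (fun _ => Set.range (Nat.cast : ℕ → ℚ))
      (fun _ => Set.infinite_range_of_injective Nat.cast_injective)
    intro x hx
    have hx' : ∀ i, ∃ n : ℕ, (n : ℚ) = x i := fun i => hx i (Set.mem_univ i)
    choose n hn using hx'
    have hxn : x = fun i => (n i : ℚ) := funext fun i => (hn i).symm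
    rw [hxn, h n]
    simp
  have hm : (Finsupp.equivFunOnFinite.symm fun _ : Fin 1 => 1) = Finsupp.single (0 : Fin 1) 1 := by
    apply Finsupp.ext
    intro i
    have : i = 0 := Subsingleton.elim _ _
    subst this
    simp
  rw [hm, hP, MvPolynomial.coeff_add, MvPolynomial.coeff_C_mul, MvPolynomial.coeff_X,
    MvPolynomial.coeff_C]
  have : ¬ (0 : Fin 1 →₀ ℕ) = Finsupp.single (0 : Fin 1) 1 := by
    intro h0
    have := congrArg (fun f => f 0) h0
    simp at this
  rw [if_neg this]
  simp

end poly

variable (k : Type u) [Field k] {X : Scheme.{u}} [X.Over (Spec (CommRingCat.of k))]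
  [IsProper (X ↘ Spec (CommRingCat.of k))]

/-- `deg(M^{⊗ m}) = m deg(M)` for invertible `M` on a proper scheme of dimension `≤ 1`. -/
theorem deg_tensorPow (hdim : topologicalKrullDim X ≤ 1) (M : X.Modules)
    (hM : PicF.IsInvertible M) (m : ℕ) :
    Curv2.deg k X (CohB1.tensorPow M m) 1 = m * Curv2.deg k X M 1 := by
  induction m with
  | zero =>
    unfold Curv2.deg
    change Curv2.euler k X (Coh.structureModule X) - _ = _
    push_cast
    ring
  | succ j ih =>
    have h1 := deg_tensorMod k hdim 1 1 (CohB1.tensorPow M j) M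
      ((isInvertible_iff _).mp (isInvertible_tensorPow hM j)) ((isInvertible_iff _).mp hM)
    change Curv2.deg k X (CohB1.tensorMod (CohB1.tensorPow M j) M) 1 = _
    rw [mul_one] at h1
    rw [h1, ih]
    push_cast
    ring

/-- **the Euler characteristic of `O_D ⊗ L^m` for `dim D ≤ 1`.** -/
theorem euler_quotMod_tensorPow (D : X.IdealSheafData)
    (hD : topologicalKrullDim (D.support : Set X) ≤ 1) (L : X.Modules)
    (hL : PicF.IsInvertible L) (m : ℕ) :
    Curv2.euler k X (CohB1.tensorMod (ClSub.quotMod D) (CohB1.tensorPow L m)) =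
      m * @Curv2.deg k _ D.subscheme (overOf k D.subschemeι)
        ((Scheme.Modules.pullback D.subschemeι).obj L) 1 + Curv2.euler k X (ClSub.quotMod D) := by
  letI : D.subscheme.Over (Spec (CommRingCat.of k)) := overOf k D.subschemeι
  haveI : IsProper (D.subscheme ↘ Spec (CommRingCat.of k)) :=
    inferInstanceAs (IsProper (D.subschemeι ≫ (X ↘ Spec (CommRingCat.of k))))
  have hdimZ : topologicalKrullDim D.subscheme ≤ 1 := by
    rw [dim_subscheme_eq]; exact hD
  have hLm := isInvertible_tensorPow hL m
  have h1 := deg_restrict_eq k D 1 (CohB1.tensorPow L m)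
    (Curve.isFinLocFree_of_rank ((isInvertible_iff _).mp hLm))
  rw [Curve.deg_iso k D.subscheme (pbTensorPowIso D.subschemeι L hL m),
    deg_tensorPow k hdimZ _ (isInvertible_pullback D.subschemeι hL) m] at h1
  push_cast at h1
  linarith

end Groth.Agent.H5.DegC
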