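import Mathlib
import Groth.Agent.Lib.Helper5.DegC.IntNum
import Groth.Agent.Lib.Helper5.GF.GF6
import Groth.Agent.Lib.Helper5.Curve3.LocEq
import Groth.Agent.Lib.Helper5.Lim.ModuleBridge
import Groth.Agent.Lib.Lead.QC.QuotSupp
import Groth.Prelude.Def_BlowUp2

/-!
# Twisting by an effective Cartier divisor on a proper scheme of dimension `≤ 1`.
-/

set_option autoImplicit false
universe u
open CategoryTheory CategoryTheory.Limits AlgebraicGeometry TopologicalSpace Opposite

namespace Groth.Agent.H5.DegC

open Groth.Agent.LD Groth.Agent.LD.QC Groth.Agent.H5.Curve4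

section

variable {X : Scheme.{u}}

/-- points in the support of an effective Cartier divisor have proper generalizations. -/
lemma exists_generalization_of_mem_support (D : X.IdealSheafData)
    (hD : BlowUp.IsEffCartierIdeal D) (z : X) (hz : z ∈ D.support) : ∃ y : X, y ⤳ z ∧ y ≠ z := by
  by_contra hcon
  push Not at hcon
  obtain ⟨U, hzU, f, hf, hI⟩ := hD z
  have hmin := Groth.Agent.H5.GF.primeIdealOf_mem_minimalPrimes_of_isMinPt U.2 z hzU hcon
  have hfp : f ∈ (U.2.primeIdealOf ⟨z, hzU⟩).asIdeal := by
    by_contra hn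
    have h1 := (Groth.Agent.H5.Curve3.mem_basicOpen_iff_notMem_primeIdealOf U.2 f z hzU).mpr hn
    have h2 := (D.mem_support_iff_of_mem hzU).mp hz
    rw [Scheme.mem_zeroLocus_iff] at h2
    exact h2 f (by rw [hI]; exact Ideal.mem_span_singleton_self f) h1
  exact Set.disjoint_left.mp (Ideal.disjoint_nonZeroDivisors_of_mem_minimalPrimes hmin) hfp hf

lemma isClosed_singleton_of_mem_support (hdim : topologicalKrullDim X ≤ 1)
    (D : X.IdealSheafData) (hD : BlowUp.IsEffCartierIdeal D) (z : X) (hz : z ∈ D.support) :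
    IsClosed ({z} : Set X) := by
  obtain ⟨y', hy', hne⟩ := exists_generalization_of_mem_support D hD z hz
  exact Groth.Agent.H5.Curve3.isClosed_singleton_of_generalization hdim hy' hne

/-- an effective Cartier divisor on a scheme of dimension `≤ 1` has dimension `≤ 0`. -/
theorem dim_support_le_zero_of_isEffCartier (hdim : topologicalKrullDim X ≤ 1)
    (D : X.IdealSheafData) (hD : BlowUp.IsEffCartierIdeal D) :
    topologicalKrullDim (D.support : Set X) ≤ 0 := by
  haveI : QuasiSober (D.support : Set X) :=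
    D.support.isClosed.isClosedEmbedding_subtypeVal.quasiSober
  apply dim_le_zero_of_forall_isClosed_singleton
  intro y
  have h1 : IsClosed ({y.1} : Set X) := isClosed_singleton_of_mem_support hdim D hD y.1 y.2
  have h2 : ({y} : Set (D.support : Set X)) = Subtype.val ⁻¹' {y.1} := by
    ext z
    simp only [Set.mem_singleton_iff, Set.mem_preimage]
    exact Subtype.ext_iff
  rw [h2]
  exact h1.preimage continuous_subtype_val

/-- `O_X ⟶ O_X / I` is an epimorphism. -/
instance epi_toSubscheme (D : X.IdealSheafData) : Epi (ClSub.toSubscheme D) := by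
  apply Groth.Agent.H5.Lim.epi_of_surjective_affine_cover
  intro x
  obtain ⟨U, hU, hxU, -⟩ := exists_isAffineOpen_mem_and_subset (x := x) (U := ⊤) trivial
  exact ⟨U, hU, hxU, toSubscheme_app_surjective D ⟨U, hU⟩⟩

/-- the short exact sequence `0 ⟶ I ⟶ O_X ⟶ O_X / I ⟶ 0`. -/
theorem shortExact_idealMod (D : X.IdealSheafData) :
    (ShortComplex.mk (ClSub.idealModι D) (ClSub.toSubscheme D)
      (kernel.condition (ClSub.toSubscheme D))).ShortExact :=
  { exact := ShortComplex.exact_kernel (ClSub.toSubscheme D)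
    mono_f := inferInstanceAs (Mono (kernel.ι (ClSub.toSubscheme D)))
    epi_g := epi_toSubscheme D }

end

variable (k : Type u) [Field k] {X : Scheme.{u}} [X.Over (Spec (CommRingCat.of k))]
  [IsProper (X ↘ Spec (CommRingCat.of k))]

/-- the degree of `O_X(D)` is `dim_k H⁰(O_D)`. -/
theorem deg_of_inverse_idealMod (hdim : topologicalKrullDim X ≤ 1) (D : X.IdealSheafData)
    (hD : BlowUp.IsEffCartierIdeal D) (L : X.Modules) (hL : PicF.IsInvertible L)
    (hLD : ClSub.IsInverseOf L (ClSub.idealMod D)) :
    Curv2.deg k X L 1 = (Module.finrank k (Coh.HH X (ClSub.quotMod D) 0) : ℤ) := by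
  haveI : IsNoetherian X := Curve2.isNoetherian_of_proper k X
  have hL1 : FlatMod.IsFinLocFreeOfRank 1 L := (isInvertible_iff L).mp hL
  have hLc := Curve.isCoh_of_rank hL1
  obtain ⟨e⟩ := hLD
  have hQc : Coh.IsCoh (ClSub.quotMod D) := isCoh_quotMod D
  have hOc := Groth.Agent.LD.PF.isCoh_unitMod X
  have hIc : Coh.IsCoh (ClSub.idealMod D) := isCoh_of_mono (ClSub.idealModι D) inferInstance hOc
  haveI : PreservesFiniteLimits (LT L) := preservesFiniteLimits_LT L (Curve.isFinLocFree_of_rank hL1)
  have hS := shortExact_idealMod D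
  have hS' := hS.map_of_exact (LT L)
  have e1 := Curve.euler_add k X _ hS' (isCoh_tensorMod' hLc hIc) (isCoh_tensorMod' hLc hOc)
    (isCoh_tensorMod' hLc hQc)
  change Curv2.euler k X (CohB1.tensorMod L (unitMod X)) =
    Curv2.euler k X (CohB1.tensorMod L (ClSub.idealMod D)) +
      Curv2.euler k X (CohB1.tensorMod L (ClSub.quotMod D)) at e1
  rw [Curve.euler_iso k X (SecTwist.unitorR L), Curve.euler_iso k X e] at e1
  have hsupp : topologicalKrullDim (CohB1.support (ClSub.quotMod D)) ≤ 0 := by
    rw [support_quotMod]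
    exact dim_support_le_zero_of_isEffCartier hdim D hD
  obtain ⟨d⟩ := nonempty_finDecomp_tensor (ClSub.quotMod D) hQc hsupp 1 L hL1
  have e2 := d.euler_eq k
  rw [Curve.euler_iso k X (tensorCommAll L (ClSub.quotMod D)), e2] at e1
  have hpt : ∀ x : X, ¬ Subsingleton ((ClSub.quotMod D).presheaf.stalk x) →
      IsClosed ({x} : Set X) := by
    intro x hx
    have hx' : x ∈ CohB1.support (ClSub.quotMod D) := hx
    rw [support_quotMod] at hx'
    exact isClosed_singleton_of_mem_support hdim D hD x hx'
  rw [Curve.euler_of_support_closed_points k X _ hQc hpt] at e1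
  unfold Curv2.deg
  rw [e1]
  push_cast
  ring

/-- **S1604**. -/
theorem deg_tensor_effCartier (hdim : topologicalKrullDim X ≤ 1) (D : X.IdealSheafData)
    (hD : BlowUp.IsEffCartierIdeal D) (L : X.Modules) (hL : PicF.IsInvertible L)
    (hLD : ClSub.IsInverseOf L (ClSub.idealMod D)) (n : ℕ) (E : X.Modules)
    (hE : FlatMod.IsFinLocFreeOfRank n E) :
    IsFinite (D.subschemeι ≫ (X ↘ Spec (CommRingCat.of k))) ∧
      Curv2.deg k X (CohB1.tensorMod E L) n =
        n * Module.finrank k (Coh.HH X (ClSub.quotMod D) 0) + Curv2.deg k X E n := by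
  constructor
  · letI : D.subscheme.Over (Spec (CommRingCat.of k)) := overOf k D.subschemeι
    haveI : IsProper (D.subscheme ↘ Spec (CommRingCat.of k)) :=
      inferInstanceAs (IsProper (D.subschemeι ≫ (X ↘ Spec (CommRingCat.of k))))
    haveI : IsNoetherian D.subscheme := Curve2.isNoetherian_of_proper k D.subscheme
    have hdimZ : topologicalKrullDim D.subscheme ≤ 0 := by
      rw [dim_subscheme_eq]
      exact dim_support_le_zero_of_isEffCartier hdim D hD
    haveI : IsAffine D.subscheme := isAffine_of_dim_le_zero D.subscheme hdimZ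
    rw [IsFinite.iff_isProper_and_isAffineHom]
    exact ⟨inferInstance, inferInstance⟩
  · have h1 := deg_tensorMod k hdim n 1 E L hE ((isInvertible_iff L).mp hL)
    rw [mul_one] at h1
    rw [h1, deg_of_inverse_idealMod k hdim D hD L hL hLD]
    push_cast
    ring

end Groth.Agent.H5.DegC
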