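import Mathlib
import Groth.Agent.Lib.Helper5.Curve1.G
import Groth.Agent.Lib.Helper5.Curve2.D
import Groth.Agent.Lib.Helper5.Curve3.Proj

/-!
# Non-constant morphisms of integral proper curves are finite.
-/

set_option autoImplicit false
universe u
open CategoryTheory CategoryTheory.Limits AlgebraicGeometry TopologicalSpace Opposite

namespace Groth.Agent.H5.DegC

open Groth.Agent.LD Groth.Agent.LD.QC

/-- a finite set of closed points is discrete. -/
lemma isDiscrete_of_finite_of_isClosed {T : Type*} [TopologicalSpace T] {s : Set T}
    (hs : s.Finite) (h : ∀ x ∈ s, IsClosed ({x} : Set T)) : IsDiscrete s := by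
  haveI : Finite s := hs
  haveI : T1Space s := ⟨fun x => by
    have h2 : ({x} : Set s) = Subtype.val ⁻¹' {x.1} := by
      ext z
      simp only [Set.mem_singleton_iff, Set.mem_preimage]
      exact Subtype.ext_iff
    rw [h2]
    exact (h x.1 x.2).preimage continuous_subtype_val⟩
  exact ⟨inferInstance⟩

variable (k : Type u) [Field k] {X Y : Scheme.{u}}
  [X.Over (Spec (CommRingCat.of k))] [Y.Over (Spec (CommRingCat.of k))] [IsIntegral X]
  [IsIntegral Y] [IsProper (X ↘ Spec (CommRingCat.of k))] [IsProper (Y ↘ Spec (CommRingCat.of k))]

include k in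
/-- a morphism of integral proper curves sending the generic point to the generic point is
finite. -/
theorem isFinite_of_nonconstant (hX : topologicalKrullDim X ≤ 1) (hY : topologicalKrullDim Y = 1)
    (f : X ⟶ Y)
    (hf : f ≫ (Y ↘ Spec (CommRingCat.of k)) = X ↘ Spec (CommRingCat.of k))
    (hξ : f (genericPoint X) = genericPoint Y) : IsFinite f := by
  haveI : IsNoetherian X := Curve2.isNoetherian_of_proper k X
  haveI : IsProper (f ≫ (Y ↘ Spec (CommRingCat.of k))) := by rw [hf]; infer_instance
  haveI : IsProper f := IsProper.of_comp f (Y ↘ Spec (CommRingCat.of k))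
  have hηY : ¬ IsClosed ({genericPoint Y} : Set Y) := by
    intro hcl
    have h1 : ({genericPoint Y} : Set Y) = Set.univ := by
      rw [← hcl.closure_eq]
      exact (genericPoint_spec Y).def
    haveI : Subsingleton Y := by
      refine ⟨fun a b => ?_⟩
      have ha : a ∈ ({genericPoint Y} : Set Y) := by rw [h1]; trivial
      have hb : b ∈ ({genericPoint Y} : Set Y) := by rw [h1]; trivial
      rw [Set.mem_singleton_iff] at ha hb
      rw [ha, hb]
    have := Groth.Agent.H5.Curve3.topologicalKrullDim_nonpos_of_subsingleton Y
    rw [hY] at this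
    exact absurd this (by decide)
  haveI : LocallyQuasiFinite f := by
    rw [locallyQuasiFinite_iff_isDiscrete_preimage_singleton]
    intro y
    by_cases hy : y = genericPoint Y
    · subst hy
      apply Set.Subsingleton.isDiscrete
      have key : ∀ a ∈ f ⁻¹' {genericPoint Y}, a = genericPoint X := by
        intro a ha
        by_contra hne
        have hcl : IsClosed ({a} : Set X) := Curve.isClosed_singleton_of_ne_genericPoint hX a hne
        have h2 : IsClosed (f '' {a}) := f.isClosedMap _ hcl
        rw [Set.image_singleton] at h2
        have ha' : f a = genericPoint Y := ha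
        rw [ha'] at h2
        exact hηY h2
      intro a ha b hb
      rw [key a ha, key b hb]
    · have hcl : IsClosed ({y} : Set Y) :=
        Curve.isClosed_singleton_of_ne_genericPoint hY.le y hy
      have hcl' : IsClosed (f ⁻¹' {y}) := hcl.preimage f.continuous
      let U : X.Opens := ⟨(f ⁻¹' {y})ᶜ, hcl'.isOpen_compl⟩
      have hηU : genericPoint X ∈ U := by
        intro hmem
        have : f (genericPoint X) = y := hmem
        rw [hξ] at this
        exact hy this.symm
      have hfin : ((U : Set X)ᶜ).Finite :=
        Groth.Agent.H5.Curve1.finite_compl_of_nonempty hX U ⟨_, hηU⟩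
      have hfin' : (f ⁻¹' {y}).Finite := by
        have : (U : Set X)ᶜ = f ⁻¹' {y} := compl_compl _
        rw [← this]
        exact hfin
      apply isDiscrete_of_finite_of_isClosed hfin'
      intro x hx
      apply Curve.isClosed_singleton_of_ne_genericPoint hX
      rintro rfl
      exact hηU hx
  exact IsFinite.of_isProper_of_locallyQuasiFinite f

end Groth.Agent.H5.DegC
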