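import Mathlib
import Groth.Agent.Lib.Helper5.Curve4.Sat2
import Groth.Agent.Lib.Lead.QC.Stalk

/-!
# The generic rank of a quasi-coherent module via sections over an affine open; the generic rank
of `f_* O_X` is the residue degree at the generic point.
-/

set_option autoImplicit false
universe u
open CategoryTheory CategoryTheory.Limits AlgebraicGeometry TopologicalSpace Opposite
open scoped nonZeroDivisors

namespace Groth.Agent.H5.DegC

open Groth.Agent.LD Groth.Agent.LD.QC Groth.Agent.H5.Curve4

section

variable {Z : Scheme.{u}} [IsIntegral Z]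

/-- the generic rank is the rank of the module of sections over any nonempty affine open. -/
theorem gdim_eq_finrank_sections (M : Z.Modules) [M.IsQuasicoherent] {W : Z.Opens}
    (hW : IsAffineOpen W) (hη : genericPoint Z ∈ W) :
    gdim M = Module.finrank Γ(Z, W) Γ(M, W) := by
  haveI : Nonempty W := ⟨⟨_, hη⟩⟩
  letI := stalkΓModule M (genericPoint Z) W hη
  haveI := isLocalizedModule_germ M hW (genericPoint Z) hη
  letI : Algebra Γ(Z, W) (Z.presheaf.stalk (genericPoint Z)) :=
    Z.presheaf.algebra_section_stalk ⟨genericPoint Z, hη⟩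
  haveI := hW.isLocalization_stalk ⟨genericPoint Z, hη⟩
  haveI : IsScalarTower Γ(Z, W) (Z.presheaf.stalk (genericPoint Z))
      (M.presheaf.stalk (genericPoint Z)) :=
    ⟨fun r s m => by
      change (r • s) • m = Z.presheaf.germ W (genericPoint Z) hη r • (s • m)
      rw [Algebra.smul_def, mul_smul]
      rfl⟩
  have hp : (hW.primeIdealOf ⟨genericPoint Z, hη⟩).asIdeal.primeCompl ≤ Γ(Z, W)⁰ := by
    intro a ha
    apply mem_nonZeroDivisors_of_ne_zero
    rintro rfl
    exact ha (Ideal.zero_mem _)
  unfold gdim
  rw [IsLocalization.finrank_eq (Z.presheaf.stalk (genericPoint Z))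
    (hW.primeIdealOf ⟨genericPoint Z, hη⟩).asIdeal.primeCompl hp]
  exact IsLocalizedModule.finrank_eq (hW.primeIdealOf ⟨genericPoint Z, hη⟩).asIdeal.primeCompl
    (germLinear M (genericPoint Z) W hη) hp

/-- the residue map of the function field is bijective. -/
lemma residue_genericPoint_bijective :
    Function.Bijective (Z.residue (genericPoint Z)) := by
  letI : Field (Z.presheaf.stalk (genericPoint Z)) := inferInstanceAs (Field Z.functionField)
  constructor
  · exact RingHom.injective (Z.residue (genericPoint Z)).hom
  · exact IsLocalRing.residue_surjective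

/-- the residue field at the generic point is the fraction field of the sections over a nonempty
affine open. -/
theorem isFractionRing_residueField {W : Z.Opens} (hW : IsAffineOpen W) (z : Z)
    (hz : z = genericPoint Z) (hzW : z ∈ W) :
    @IsFractionRing Γ(Z, W) _ (Z.residueField z) _ (Z.evaluation W z hzW).hom.toAlgebra := by
  subst hz
  haveI : Nonempty W := ⟨⟨_, hzW⟩⟩
  letI : Algebra Γ(Z, W) (Z.residueField (genericPoint Z)) :=
    (Z.evaluation W (genericPoint Z) hzW).hom.toAlgebra
  haveI : IsFractionRing Γ(Z, W) Z.functionField :=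
    functionField_isFractionRing_of_isAffineOpen Z W hW
  let e : Z.functionField ≃+* Z.residueField (genericPoint Z) :=
    RingEquiv.ofBijective (Z.residue (genericPoint Z)).hom residue_genericPoint_bijective
  let e' : Z.functionField ≃ₐ[Γ(Z, W)] Z.residueField (genericPoint Z) :=
    { e with commutes' := fun a => rfl }
  exact IsLocalization.isLocalization_of_algEquiv _ e'

end

section

variable {X Y : Scheme.{u}} [IsIntegral X] [IsIntegral Y] (f : X ⟶ Y) [IsAffineHom f]

/-- the generic rank of `f_* O_X` is the degree of the extension of function fields. -/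
theorem gdim_push_unit (hξ : f (genericPoint X) = genericPoint Y) :
    gdim ((Scheme.Modules.pushforward f).obj (unitMod X)) = f.residueDegree (genericPoint X) := by
  obtain ⟨V, hV, hηV, -⟩ :=
    exists_isAffineOpen_mem_and_subset (x := genericPoint Y) (U := ⊤) trivial
  have hU : IsAffineOpen (f ⁻¹ᵁ V) := hV.preimage f
  have hyV : f (genericPoint X) ∈ V := by rw [hξ]; exact hηV
  have hηU : genericPoint X ∈ f ⁻¹ᵁ V := hyV
  haveI : (unitMod X).IsQuasicoherent := inferInstance
  haveI : ((Scheme.Modules.pushforward f).obj (unitMod X)).IsQuasicoherent :=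
    qc_pushforward f (unitMod X)
  rw [gdim_eq_finrank_sections _ hV hηV]
  -- the algebra structures
  letI aAB : Algebra Γ(Y, V) Γ(X, f ⁻¹ᵁ V) := (f.app V).hom.toAlgebra
  letI aAK : Algebra Γ(Y, V) (Y.residueField (f (genericPoint X))) :=
    (Y.evaluation V (f (genericPoint X)) hyV).hom.toAlgebra
  letI aBL : Algebra Γ(X, f ⁻¹ᵁ V) (X.residueField (genericPoint X)) :=
    (X.evaluation (f ⁻¹ᵁ V) (genericPoint X) hηU).hom.toAlgebra
  letI aKL : Algebra (Y.residueField (f (genericPoint X))) (X.residueField (genericPoint X)) :=
    (f.residueFieldMap (genericPoint X)).hom.toAlgebra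
  letI aAL : Algebra Γ(Y, V) (X.residueField (genericPoint X)) :=
    ((X.evaluation (f ⁻¹ᵁ V) (genericPoint X) hηU).hom.comp (f.app V).hom).toAlgebra
  haveI : IsScalarTower Γ(Y, V) Γ(X, f ⁻¹ᵁ V) (X.residueField (genericPoint X)) :=
    IsScalarTower.of_algebraMap_eq (fun a => rfl)
  haveI : IsScalarTower Γ(Y, V) (Y.residueField (f (genericPoint X)))
      (X.residueField (genericPoint X)) :=
    IsScalarTower.of_algebraMap_eq (fun a =>
      (Scheme.evaluation_naturality_apply f (V := V) (genericPoint X) hyV a).symm)
  haveI : IsFractionRing Γ(Y, V) (Y.residueField (f (genericPoint X))) :=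
    isFractionRing_residueField hV _ hξ hyV
  haveI : IsFractionRing Γ(X, f ⁻¹ᵁ V) (X.residueField (genericPoint X)) :=
    isFractionRing_residueField hU _ rfl hηU
  have key := IsFractionRing.finrank_eq Γ(Y, V) (Y.residueField (f (genericPoint X)))
    Γ(X, f ⁻¹ᵁ V) (X.residueField (genericPoint X))
  exact key.symm

end

end Groth.Agent.H5.DegC
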