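import Mathlib
import Groth.Agent.Lib.Helper5.DegC.GenRank
import Groth.Agent.Lib.Helper5.DegC.FinMor
import Groth.Agent.Lib.Helper5.DegC.RankDeg
import Groth.Agent.Lib.Helper5.Curve3.FinBir
import Groth.Agent.Lib.Helper5.Lim.ModuleLocFreeRank

/-!
# `deg f^* E = deg(X/Y) deg E` for a non-constant morphism of integral proper curves.
-/

set_option autoImplicit false
universe u
open CategoryTheory CategoryTheory.Limits AlgebraicGeometry TopologicalSpace Opposite

namespace Groth.Agent.H5.DegC

open Groth.Agent.LD Groth.Agent.LD.QC Groth.Agent.H5.Curve4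

variable (k : Type u) [Field k] {X Y : Scheme.{u}}
  [X.Over (Spec (CommRingCat.of k))] [Y.Over (Spec (CommRingCat.of k))]

/-- Leray for affine morphisms, for Euler characteristics. -/
theorem euler_push_of_isAffineHom (f : X ⟶ Y) [f.IsOver (Spec (CommRingCat.of k))] [IsAffineHom f]
    (G : X.Modules) [G.IsQuasicoherent] :
    Curv2.euler k Y ((Scheme.Modules.pushforward f).obj G) = Curv2.euler k X G := by
  unfold Curv2.euler
  refine finsum_congr (fun p => ?_)
  obtain ⟨e⟩ := Groth.Agent.H5.Curve3.nonempty_HH_push_linearEquiv k f G p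
  rw [e.finrank_eq]

variable [IsIntegral X] [IsIntegral Y] [IsProper (X ↘ Spec (CommRingCat.of k))]
  [IsProper (Y ↘ Spec (CommRingCat.of k))]

/-- **S7640**. -/
theorem deg_pullback_eq (hX : topologicalKrullDim X ≤ 1) (hY : topologicalKrullDim Y = 1)
    (f : X ⟶ Y) (hf : f ≫ (Y ↘ Spec (CommRingCat.of k)) = X ↘ Spec (CommRingCat.of k))
    (hξ : f (genericPoint X) = genericPoint Y) (n : ℕ) (E : Y.Modules)
    (hE : FlatMod.IsFinLocFreeOfRank n E) :
    Curv2.deg k X ((Scheme.Modules.pullback f).obj E) n =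
      (f.residueDegree (genericPoint X) : ℤ) * Curv2.deg k Y E n := by
  haveI : IsFinite f := isFinite_of_nonconstant k hX hY f hf hξ
  haveI : f.IsOver (Spec (CommRingCat.of k)) := ⟨hf⟩
  have hE' := Groth.Agent.H5.Lim.isFinLocFreeOfRank_pullback f E hE
  have hE'c := Curve.isCoh_of_rank hE'
  haveI := hE'c.1
  haveI : (unitMod X).IsQuasicoherent := inferInstance
  have hOc : Coh.IsCoh ((Scheme.Modules.pushforward f).obj (unitMod X)) :=
    ⟨qc_pushforward f _, isFiniteType_pushforward_of_isFinite f _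
      (Groth.Agent.LD.PF.isCoh_unitMod X).2⟩
  have h1 := delta_eq_zero k hY.le n E hE _ hOc
  unfold delta at h1
  rw [gdim_push_unit f hξ, euler_push_of_isAffineHom k f (unitMod X)] at h1
  have e1 : CohB1.tensorMod E ((Scheme.Modules.pushforward f).obj (unitMod X)) ≅
      (Scheme.Modules.pushforward f).obj ((Scheme.Modules.pullback f).obj E) :=
    (projIsoL f E (Curve.isFinLocFree_of_rank hE)).app (unitMod X) ≪≫
      (Scheme.Modules.pushforward f).mapIso (SecTwist.unitorR _)
  rw [Curve.euler_iso k Y e1, euler_push_of_isAffineHom k f _] at h1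
  unfold Curv2.deg at h1 ⊢
  linarith

end Groth.Agent.H5.DegC
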