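import Mathlib
import Groth.Agent.Lib.Lead.Curve.Euler
import Groth.Agent.Lib.Lead.PF.ProjFinite
import Groth.Agent.Lib.Lead.PF.LocalVanish

/-!
# `H⁰(X, O_X)` is a field for a reduced connected proper scheme; divisibility of degrees.
-/

set_option autoImplicit false
universe u
open CategoryTheory CategoryTheory.Limits AlgebraicGeometry TopologicalSpace Opposite

namespace Groth.Agent.H5.DegC

open Groth.Agent.LD Groth.Agent.LD.QC

section

variable {X : Scheme.{u}}

/-- on a connected scheme, a global function `a` with `a^m * q = 0` and `q = c + a * r`, `c` a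
unit, is either nowhere vanishing or vanishes everywhere. -/
lemma basicOpen_eq_top_or_bot [ConnectedSpace X] (a q r c : Γ(X, ⊤)) (m : ℕ)
    (h1 : a ^ m * q = 0) (h2 : q = c + a * r) (hc : IsUnit c) :
    X.basicOpen a = ⊤ ∨ X.basicOpen a = ⊥ := by
  by_cases hm : m = 0
  · subst hm
    rw [pow_zero, one_mul] at h1
    -- `q = 0`, so `c = - a r` and `a` is a unit
    left
    have hu : IsUnit (a * r) := by
      have : a * r = -c := by
        rw [h1] at h2
        linear_combination -h2
      rw [this]
      exact hc.neg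
    have ha : IsUnit a := isUnit_of_mul_isUnit_left hu
    exact X.basicOpen_of_isUnit ha
  have hdisj : X.basicOpen a ⊓ X.basicOpen q = ⊥ := by
    have h3 : X.basicOpen (a ^ m * q) = ⊥ := by rw [h1]; exact X.basicOpen_zero ⊤
    rw [X.basicOpen_mul, X.basicOpen_pow a (Nat.pos_of_ne_zero hm)] at h3
    exact h3
  have hcov : X.basicOpen a ⊔ X.basicOpen q = ⊤ := by
    rw [eq_top_iff]
    intro x _
    by_contra hx
    have hxa : x ∉ X.basicOpen a := fun h => hx (Or.inl h)
    have hxq : x ∉ X.basicOpen q := fun h => hx (Or.inr h)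
    rw [X.mem_basicOpen a x trivial] at hxa
    rw [X.mem_basicOpen q x trivial] at hxq
    have hca : IsUnit (X.presheaf.germ ⊤ x trivial c) := hc.map _
    have ha' : X.presheaf.germ ⊤ x trivial a ∈ IsLocalRing.maximalIdeal (X.presheaf.stalk x) :=
      hxa
    have hq' : X.presheaf.germ ⊤ x trivial q ∈ IsLocalRing.maximalIdeal (X.presheaf.stalk x) :=
      hxq
    have hc' : X.presheaf.germ ⊤ x trivial c ∈ IsLocalRing.maximalIdeal (X.presheaf.stalk x) := by
      have : X.presheaf.germ ⊤ x trivial c =
          X.presheaf.germ ⊤ x trivial q -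
            X.presheaf.germ ⊤ x trivial a * X.presheaf.germ ⊤ x trivial r := by
        rw [h2, map_add, map_mul]; ring
      rw [this]
      exact Ideal.sub_mem _ hq' (Ideal.mul_mem_right _ _ ha')
    exact hc' hca
  -- connectedness
  have hconn := isPreconnected_univ (α := X)
  by_contra hcon
  push Not at hcon
  obtain ⟨hne_top, hne_bot⟩ := hcon
  have hane : ((X.basicOpen a : Set X)).Nonempty := by
    rw [Set.nonempty_iff_ne_empty]
    intro h
    apply hne_bot
    ext x
    simp only [Opens.coe_bot, Set.mem_empty_iff_false, iff_false]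
    intro hx
    have : x ∈ (X.basicOpen a : Set X) := hx
    rw [h] at this
    exact this
  have hqne : ((X.basicOpen q : Set X)).Nonempty := by
    rw [Set.nonempty_iff_ne_empty]
    intro h
    apply hne_top
    rw [eq_top_iff]
    intro x hx
    have h3 : x ∈ X.basicOpen a ⊔ X.basicOpen q := by rw [hcov]; trivial
    rcases h3 with h3 | h3
    · exact h3
    · have : x ∈ (X.basicOpen q : Set X) := h3
      rw [h] at this
      exact this.elim
  obtain ⟨x, -, hxa, hxq⟩ := hconn _ _ (X.basicOpen a).isOpen (X.basicOpen q).isOpen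
    (by
      intro x _
      have h3 : x ∈ X.basicOpen a ⊔ X.basicOpen q := by rw [hcov]; trivial
      exact h3)
    (by simpa using hane) (by simpa using hqne)
  have : x ∈ X.basicOpen a ⊓ X.basicOpen q := ⟨hxa, hxq⟩
  rw [hdisj] at this
  exact this

end

variable (k : Type u) [Field k] (X : Scheme.{u}) [X.Over (Spec (CommRingCat.of k))]
  [IsProper (X ↘ Spec (CommRingCat.of k))]

/-- the `k`-algebra structure on global functions. -/
noncomputable abbrev algΓ : Algebra k Γ(X, ⊤) :=
  ((X ↘ (Spec (CommRingCat.of k))).appTop.hom.comp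
      (Scheme.ΓSpecIso (CommRingCat.of k)).inv.hom).toAlgebra

/-- global functions on a proper scheme over a field are integral over the field. -/
theorem isIntegral_Γ (a : Γ(X, ⊤)) : @IsIntegral k Γ(X, ⊤) _ _ (algΓ k X) a := by
  letI := algΓ k X
  have h1 := isIntegral_appTop_of_universallyClosed (X ↘ Spec (CommRingCat.of k))
  have h2 : ((X ↘ (Spec (CommRingCat.of k))).appTop.hom.comp
      (Scheme.ΓSpecIso (CommRingCat.of k)).inv.hom).IsIntegral :=
    RingHom.IsIntegral.trans _ _ (RingHom.isIntegral_of_surjective _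
      (ConcreteCategory.bijective_of_isIso (Scheme.ΓSpecIso (CommRingCat.of k)).inv).2) h1
  exact h2 a

include k in
/-- **`Γ(X, O_X)` is a field** for `X` proper, reduced and connected over a field. -/
theorem isField_Γ [IsReduced X] [ConnectedSpace X] : IsField Γ(X, ⊤) := by
  letI := algΓ k X
  haveI : Nonempty X := ConnectedSpace.toNonempty
  haveI : Nonempty (⊤ : X.Opens) := ⟨⟨Classical.arbitrary X, trivial⟩⟩
  haveI : Nontrivial Γ(X, ⊤) := X.component_nontrivial ⊤
  refine ⟨exists_pair_ne _, mul_comm, ?_⟩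
  intro a ha
  obtain ⟨p, hpm, hp⟩ := isIntegral_Γ k X a
  have hp0 : p ≠ 0 := hpm.ne_zero
  obtain ⟨q, hq1, hq2⟩ := Polynomial.exists_eq_pow_rootMultiplicity_mul_and_not_dvd p hp0 0
  rw [Polynomial.C_0, sub_zero] at hq1 hq2
  have hq0 : q.coeff 0 ≠ 0 := fun h => hq2 (Polynomial.X_dvd_iff.mpr h)
  have hp' : Polynomial.aeval a p = 0 := by
    rw [Polynomial.aeval_def]; exact hp
  have e1 : a ^ (Polynomial.rootMultiplicity 0 p) * Polynomial.aeval a q = 0 := by
    rw [hq1, map_mul, map_pow, Polynomial.aeval_X] at hp'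
    exact hp'
  have e2 : Polynomial.aeval a q =
      algebraMap k Γ(X, ⊤) (q.coeff 0) + a * Polynomial.aeval a q.divX := by
    conv_lhs => rw [← Polynomial.divX_mul_X_add q]
    rw [map_add, map_mul, Polynomial.aeval_X, Polynomial.aeval_C]
    ring
  have hc : IsUnit (algebraMap k Γ(X, ⊤) (q.coeff 0)) := (IsUnit.mk0 _ hq0).map _
  rcases basicOpen_eq_top_or_bot a _ _ _ _ e1 e2 hc with h | h
  · have hu : IsUnit a := by
      apply X.toRingedSpace.isUnit_of_isUnit_germ ⊤ a
      intro x hx
      have hx' : x ∈ X.basicOpen a := by rw [h]; trivial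
      exact (X.mem_basicOpen a x hx).mp hx'
    obtain ⟨u, hu⟩ := hu
    exact ⟨↑u⁻¹, by rw [← hu]; exact u.mul_inv⟩
  · exact absurd ((basicOpen_eq_bot_iff a).mp h) ha

end Groth.Agent.H5.DegC
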