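import Mathlib
import Groth.Agent.Lib.Helper5.DegC.H0Field
import Groth.Agent.Lib.Lead.QC.QuotSupp
import Groth.Agent.Lib.Lead.Curve.DegMono

/-!
# `[H⁰(X, O_X) : k]` divides degrees (S7639).
-/

set_option autoImplicit false
universe u
open CategoryTheory CategoryTheory.Limits AlgebraicGeometry TopologicalSpace Opposite

namespace Groth.Agent.H5.DegC

open Groth.Agent.LD Groth.Agent.LD.QC

theorem finrank_dvd_of_isField {k κ V : Type*} [Field k] [Ring κ] [Algebra k κ]
    (hκ : IsField κ) [AddCommGroup V] [Module κ V] [Module k V] [IsScalarTower k κ V] :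
    Module.finrank k κ ∣ Module.finrank k V := by
  letI : Field κ := hκ.toField
  exact ⟨Module.finrank κ V, (Module.finrank_mul_finrank k κ V).symm⟩

attribute [local instance] Curv2.resAlgebra

variable (k : Type u) [Field k] (X : Scheme.{u}) [X.Over (Spec (CommRingCat.of k))]
  [IsProper (X ↘ Spec (CommRingCat.of k))]

/-- global functions on a proper scheme are finite over the base field. -/
theorem finite_Γ : @Module.Finite k Γ(X, ⊤) _ _ (algΓ k X).toModule := by
  haveI : Module.Finite k (Coh.HH X (unitMod X) 0) :=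
    Curve.finite_HH k X _ (Groth.Agent.LD.PF.isCoh_unitMod X) 0
  exact Groth.Agent.LD.PF.finite_Γ_of_finite_HH k (unitMod X)

/-- the `k`-algebra structure on `Coh.Γtop X`. -/
noncomputable abbrev algΓtop : Algebra k (Coh.Γtop X) :=
  (Coh.toGlobal (X ↘ Spec (CommRingCat.of k))).toAlgebra'
    (fun _ x => mul_comm (G := Γ(X, ⊤)) _ x)

/-- the cohomology groups are compatible with the two module structures. -/
theorem isScalarTower_HH (F : X.Modules) (i : ℕ) :
    @IsScalarTower k (Coh.Γtop X) (Coh.HH X F i) (algΓtop k X).toSMul _ _ := by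
  letI := algΓtop k X
  refine ⟨fun a r x => ?_⟩
  rw [Algebra.smul_def, mul_smul]
  rfl

variable [IsReduced X] [ConnectedSpace X]

include k in
theorem isField_Γtop : IsField (Coh.Γtop X) := isField_Γ k X

theorem finrank_Γ_dvd_finrank_HH (F : X.Modules) (i : ℕ) :
    @Module.finrank k (Coh.Γtop X) _ _ (algΓtop k X).toModule ∣
      Module.finrank k (Coh.HH X F i) := by
  letI := algΓtop k X
  haveI := isScalarTower_HH k X F i
  exact finrank_dvd_of_isField (isField_Γtop k X)

theorem finrank_Γ_dvd_euler (F : X.Modules) (hF : Coh.IsCoh F) :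
    (@Module.finrank k (Coh.Γtop X) _ _ (algΓtop k X).toModule : ℤ) ∣ Curv2.euler k X F := by
  obtain ⟨d, hd⟩ := Curve.exists_cohDim k X
  rw [Curve.euler_eq_sum k X F d (fun p hp => hd F hF.1 p hp.le)]
  apply Finset.dvd_sum
  intro j _
  apply Dvd.dvd.mul_left
  exact_mod_cast finrank_Γ_dvd_finrank_HH k X F j

/-- **S7639**. -/
theorem finrank_Γ_dvd_degrees :
    letI : Algebra k Γ(X, ⊤) := ((X ↘ (Spec (CommRingCat.of k))).appTop.hom.comp
      (Scheme.ΓSpecIso (CommRingCat.of k)).inv.hom).toAlgebra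
    IsField Γ(X, ⊤) ∧ Module.Finite k Γ(X, ⊤) ∧
      (∀ (n : ℕ) (E : X.Modules), FlatMod.IsFinLocFreeOfRank n E →
        (Module.finrank k Γ(X, ⊤) : ℤ) ∣ Curv2.deg k X E n) ∧
      (∀ x : X, IsClosed ({x} : Set X) →
        Module.finrank k Γ(X, ⊤) ∣ Module.finrank k (X.residueField x)) ∧
      (∀ D : X.IdealSheafData, topologicalKrullDim D.subscheme ≤ 0 →
        Module.finrank k Γ(X, ⊤) ∣ Module.finrank k (Coh.HH X (ClSub.quotMod D) 0)) := by
  letI : Algebra k Γ(X, ⊤) := algΓ k X
  refine ⟨isField_Γ k X, finite_Γ k X, ?_, ?_, ?_⟩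
  · intro n E hE
    unfold Curv2.deg
    apply dvd_sub
    · exact finrank_Γ_dvd_euler k X E (Curve.isCoh_of_rank hE)
    · apply Dvd.dvd.mul_left
      exact finrank_Γ_dvd_euler k X _ (Groth.Agent.LD.PF.isCoh_unitMod X)
  · intro x _
    letI : Algebra Γ(X, ⊤) (X.residueField x) := (X.Γevaluation x).hom.toAlgebra
    haveI : IsScalarTower k Γ(X, ⊤) (X.residueField x) :=
      IsScalarTower.of_algebraMap_eq (fun a => rfl)
    exact finrank_dvd_of_isField (isField_Γ k X)
  · intro D _
    exact finrank_Γ_dvd_finrank_HH k X _ 0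

end Groth.Agent.H5.DegC
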