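import Mathlib
import Groth.Agent.Lib.Helper5.DegC.PullDeg
import Groth.Agent.Lib.Helper5.DegC.TensorDeg
import Groth.Agent.Lib.Helper5.Curve3.H1Surj
import Groth.Agent.Lib.Helper5.Curve2.B
import Groth.Agent.Lib.Lead.QC.UnitIso
import Groth.Agent.Lib.Lead.QC.Epi
import Groth.Agent.Lib.Lead.QC.Gen

/-!
# Birational invariance of the degree on proper schemes of dimension `≤ 1`.
-/

set_option autoImplicit false
universe u
open CategoryTheory CategoryTheory.Limits AlgebraicGeometry TopologicalSpace Opposite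

namespace Groth.Agent.H5.DegC

open Groth.Agent.LD Groth.Agent.LD.QC Groth.Agent.H5.Curve4

section

variable {X X' : Scheme.{u}} (f : X' ⟶ X) (U : X.Opens)

/-- if `f` is an isomorphism over `U`, then `f.app` is bijective on opens inside `U`. -/
lemma app_bijective_of_isIso_restrict [IsIso (f ∣_ U)] (W' : U.toScheme.Opens) :
    Function.Bijective (f.app (U.ι ''ᵁ W')) := by
  have h1 : Function.Bijective ((f ∣_ U).app W') := ConcreteCategory.bijective_of_isIso _
  rw [morphismRestrict_app] at h1
  have h2 : Function.Bijective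
      (X'.presheaf.map (eqToHom (image_morphismRestrict_preimage f U W')).op) :=
    ConcreteCategory.bijective_of_isIso _
  constructor
  · intro a b hab
    apply h1.1
    exact congrArg (X'.presheaf.map (eqToHom (image_morphismRestrict_preimage f U W')).op) hab
  · intro y
    obtain ⟨t, ht⟩ := h1.2
      (X'.presheaf.map (eqToHom (image_morphismRestrict_preimage f U W')).op y)
    exact ⟨t, h2.1 ht⟩

/-- `O_X ⟶ f_* O_{X'}` is bijective on sections over opens inside `U`. -/
lemma toPushUnit_app_bijective [IsIso (f ∣_ U)] (W' : U.toScheme.Opens) :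
    Function.Bijective ((toPushUnit f).app (U.ι ''ᵁ W')) :=
  app_bijective_of_isIso_restrict f U W'

/-- a point of `U` has arbitrarily small neighbourhoods of the form `U.ι ''ᵁ W'`. -/
lemma exists_image_nhd (x : X) (hx : x ∈ U) (V : X.Opens) (hxV : x ∈ V) :
    ∃ W' : U.toScheme.Opens, U.ι ''ᵁ W' ≤ V ∧ x ∈ U.ι ''ᵁ W' := by
  refine ⟨U.ι ⁻¹ᵁ V, ?_, ⟨⟨x, hx⟩, hxV, rfl⟩⟩
  rintro _ ⟨y, hy, rfl⟩
  exact hy

/-- the kernel of `O_X ⟶ f_* O_{X'}` vanishes over `U`. -/
lemma subsingleton_stalk_kernel_toPushUnit [IsIso (f ∣_ U)] (x : X) (hx : x ∈ U) :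
    Subsingleton ((kernel (toPushUnit f)).presheaf.stalk x) := by
  apply subsingleton_of_forall_eq_zero
  intro c
  obtain ⟨V, hxV, s, rfl⟩ := TopCat.Presheaf.exists_germ_eq (F := (kernel (toPushUnit f)).presheaf) c
  obtain ⟨W', hW'V, hxW'⟩ := exists_image_nhd U x hx V hxV
  rw [← germ_res _ x hW'V hxW' s]
  have h0 : (kernel (toPushUnit f)).presheaf.map (homOfLE hW'V).op s = 0 := by
    apply mono_app (kernel.ι (toPushUnit f)) (U.ι ''ᵁ W')
    apply (toPushUnit_app_bijective f U W').1
    have h1 : (kernel.ι (toPushUnit f) ≫ toPushUnit f).app (U.ι ''ᵁ W')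
        ((kernel (toPushUnit f)).presheaf.map (homOfLE hW'V).op s) = 0 := by
      rw [kernel.condition]; rfl
    rw [map_zero, map_zero]
    exact h1
  rw [h0, map_zero]

/-- the cokernel of `O_X ⟶ f_* O_{X'}` vanishes over `U`. -/
lemma subsingleton_stalk_cokernel_toPushUnit [IsIso (f ∣_ U)] (x : X) (hx : x ∈ U) :
    Subsingleton ((cokernel (toPushUnit f)).presheaf.stalk x) := by
  apply subsingleton_of_forall_eq_zero
  intro c
  obtain ⟨V, hxV, q, rfl⟩ := TopCat.Presheaf.exists_germ_eq (F := (cokernel (toPushUnit f)).presheaf) c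
  obtain ⟨W, hWV, hxW, g, hg⟩ :=
    exists_local_lift (cokernel.π (toPushUnit f)) inferInstance V q x hxV
  obtain ⟨W', hW'W, hxW'⟩ := exists_image_nhd U x hx W hxW
  rw [← germ_res _ x (hW'W.trans hWV) hxW' q]
  have h0 : (cokernel (toPushUnit f)).presheaf.map (homOfLE (hW'W.trans hWV)).op q = 0 := by
    rw [← res_res _ hWV hW'W, ← hg, ← app_res]
    obtain ⟨t, ht⟩ := (toPushUnit_app_bijective f U W').2
      (((Scheme.Modules.pushforward f).obj (unitMod X')).presheaf.map (homOfLE hW'W).op g)
    rw [← ht]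
    have h1 : (toPushUnit f ≫ cokernel.π (toPushUnit f)).app (U.ι ''ᵁ W') t = 0 := by
      rw [cokernel.condition]; rfl
    exact h1
  rw [h0, map_zero]

end

variable (k : Type u) [Field k] {X X' : Scheme.{u}} [X.Over (Spec (CommRingCat.of k))]
  [X'.Over (Spec (CommRingCat.of k))] [IsProper (X ↘ Spec (CommRingCat.of k))]
  [IsProper (X' ↘ Spec (CommRingCat.of k))]

include k in
/-- a proper birational morphism of proper schemes of dimension `≤ 1` is finite. -/
theorem isFinite_of_birational (hdim' : topologicalKrullDim X' ≤ 1) (f : X' ⟶ X)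
    (hf : f ≫ (X ↘ Spec (CommRingCat.of k)) = X' ↘ Spec (CommRingCat.of k))
    (U : X.Opens) (hU' : Dense ((f ⁻¹ᵁ U : X'.Opens) : Set X')) [IsIso (f ∣_ U)] :
    IsFinite f := by
  haveI : IsNoetherian X' := Curve2.isNoetherian_of_proper k X'
  haveI : IsProper (f ≫ (X ↘ Spec (CommRingCat.of k))) := by rw [hf]; infer_instance
  haveI : IsProper f := IsProper.of_comp f (X ↘ Spec (CommRingCat.of k))
  have hcl : ∀ a : X', a ∉ f ⁻¹ᵁ U → IsClosed ({a} : Set X') := fun a ha =>
    Groth.Agent.H5.Curve3.isClosed_singleton_of_notMem_dense hdim' _ (f ⁻¹ᵁ U).isOpen hU' a ha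
  have hfin : (((f ⁻¹ᵁ U : X'.Opens) : Set X')ᶜ).Finite :=
    Curve2.finite_of_isClosed_of_closed_points _ (f ⁻¹ᵁ U).isOpen.isClosed_compl
      (fun a ha => hcl a ha)
  haveI : LocallyQuasiFinite f := by
    rw [locallyQuasiFinite_iff_isDiscrete_preimage_singleton]
    intro x
    by_cases hx : x ∈ U
    · apply Set.Subsingleton.isDiscrete
      intro a ha b hb
      have ha' : f a = x := ha
      have hb' : f b = x := hb
      have haU : a ∈ f ⁻¹ᵁ U := by change f a ∈ U; rw [ha']; exact hx
      have hbU : b ∈ f ⁻¹ᵁ U := by change f b ∈ U; rw [hb']; exact hx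
      have hinj : Function.Injective (f ∣_ U) :=
        (ConcreteCategory.bijective_of_isIso (f ∣_ U).base).1
      have h1 : (f ∣_ U) ⟨a, haU⟩ = (f ∣_ U) ⟨b, hbU⟩ := by
        apply Subtype.ext
        rw [morphismRestrict_base_coe, morphismRestrict_base_coe]
        exact ha'.trans hb'.symm
      exact congrArg Subtype.val (hinj h1)
    · have hsub : f ⁻¹' {x} ⊆ ((f ⁻¹ᵁ U : X'.Opens) : Set X')ᶜ := by
        intro a ha haU
        have ha' : f a = x := ha
        exact hx (ha' ▸ haU)
      apply isDiscrete_of_finite_of_isClosed (hfin.subset hsub)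
      intro a ha
      exact hcl a (hsub ha)
  exact IsFinite.of_isProper_of_locallyQuasiFinite f

/-- `del_E` vanishes on coherent modules supported at closed points. -/
theorem del_eq_zero_of_support_closed_points (n : ℕ) (E : X.Modules)
    (hE : FlatMod.IsFinLocFreeOfRank n E) (T : X.Modules) (hT : Coh.IsCoh T)
    (hpt : ∀ x : X, ¬ Subsingleton (T.presheaf.stalk x) → IsClosed ({x} : Set X)) :
    del k X n E T = 0 := by
  haveI : IsNoetherian X := Curve2.isNoetherian_of_proper k X
  have hcl : IsClosed (CohB1.support T) := isClosed_support_of_isCoh hT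
  haveI : QuasiSober (CohB1.support T) := hcl.isClosedEmbedding_subtypeVal.quasiSober
  have hsupp : topologicalKrullDim (CohB1.support T) ≤ 0 := by
    apply dim_le_zero_of_forall_isClosed_singleton
    intro y
    have h1 : IsClosed ({y.1} : Set X) := hpt y.1 y.2
    have h2 : ({y} : Set (CohB1.support T)) = Subtype.val ⁻¹' {y.1} := by
      ext z
      simp only [Set.mem_singleton_iff, Set.mem_preimage]
      exact Subtype.ext_iff
    rw [h2]
    exact h1.preimage continuous_subtype_val
  obtain ⟨d⟩ := nonempty_finDecomp_tensor T hT hsupp n E hE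
  unfold del
  rw [Curve.euler_iso k X (tensorCommAll E T), d.euler_eq k]
  ring

/-- **S1666**: birational invariance of the degree. -/
theorem deg_pullback_birational (hdim : topologicalKrullDim X ≤ 1)
    (hdim' : topologicalKrullDim X' ≤ 1) (f : X' ⟶ X)
    (hf : f ≫ (X ↘ Spec (CommRingCat.of k)) = X' ↘ Spec (CommRingCat.of k))
    (U : X.Opens) (hU : Dense (U : Set X)) (hU' : Dense ((f ⁻¹ᵁ U : X'.Opens) : Set X'))
    (hfU : IsIso (f ∣_ U)) (n : ℕ) (E : X.Modules) (hE : FlatMod.IsFinLocFreeOfRank n E) :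
    Curv2.deg k X' ((Scheme.Modules.pullback f).obj E) n = Curv2.deg k X E n := by
  haveI := hfU
  haveI : IsNoetherian X := Curve2.isNoetherian_of_proper k X
  haveI : IsFinite f := isFinite_of_birational k hdim' f hf U hU'
  haveI : f.IsOver (Spec (CommRingCat.of k)) := ⟨hf⟩
  have hE' := Groth.Agent.H5.Lim.isFinLocFreeOfRank_pullback f E hE
  haveI := (Curve.isCoh_of_rank hE').1
  haveI : (unitMod X').IsQuasicoherent := inferInstance
  set B := (Scheme.Modules.pushforward f).obj (unitMod X') with hB
  have hBc : Coh.IsCoh B :=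
    ⟨qc_pushforward f _, isFiniteType_pushforward_of_isFinite f _
      (Groth.Agent.LD.PF.isCoh_unitMod X').2⟩
  have hAc := Groth.Agent.LD.PF.isCoh_unitMod X
  let u : unitMod X ⟶ B := toPushUnit f
  have hKc : Coh.IsCoh (kernel u) := isCoh_kernel u hAc hBc
  have hQc : Coh.IsCoh (cokernel u) := isCoh_cokernel u hAc hBc
  have hclosed : ∀ x : X, x ∉ U → IsClosed ({x} : Set X) := fun x hx =>
    Groth.Agent.H5.Curve3.isClosed_singleton_of_notMem_dense hdim _ U.isOpen hU x hx
  have hK0 : del k X n E (kernel u) = 0 :=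
    del_eq_zero_of_support_closed_points k n E hE _ hKc (fun x hx => hclosed x (fun hxU =>
      hx (subsingleton_stalk_kernel_toPushUnit f U x hxU)))
  have hQ0 : del k X n E (cokernel u) = 0 :=
    del_eq_zero_of_support_closed_points k n E hE _ hQc (fun x hx => hclosed x (fun hxU =>
      hx (subsingleton_stalk_cokernel_toPushUnit f U x hxU)))
  -- the two short exact sequences
  let S₁ : ShortComplex X.Modules :=
    ShortComplex.mk (kernel.ι u) (cokernel.π (kernel.ι u)) (cokernel.condition _)
  have hS₁ : S₁.ShortExact :=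
    { exact := ShortComplex.exact_cokernel (kernel.ι u)
      mono_f := inferInstanceAs (Mono (kernel.ι u))
      epi_g := inferInstanceAs (Epi (cokernel.π (kernel.ι u))) }
  let S₂ : ShortComplex X.Modules :=
    ShortComplex.mk (kernel.ι (cokernel.π u)) (cokernel.π u) (kernel.condition _)
  have hS₂ : S₂.ShortExact :=
    { exact := ShortComplex.exact_kernel (cokernel.π u)
      mono_f := inferInstanceAs (Mono (kernel.ι (cokernel.π u)))
      epi_g := inferInstanceAs (Epi (cokernel.π u)) }
  have hcoim : Coh.IsCoh (cokernel (kernel.ι u)) := isCoh_cokernel _ hKc hAc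
  have him : Coh.IsCoh (kernel (cokernel.π u)) := isCoh_kernel _ hBc hQc
  have a1 := del_add k n E hE S₁ hS₁ hKc hAc hcoim
  have a2 := del_add k n E hE S₂ hS₂ him hBc hQc
  change del k X n E (unitMod X) = del k X n E (kernel u) + del k X n E (cokernel (kernel.ι u))
    at a1
  change del k X n E B = del k X n E (kernel (cokernel.π u)) + del k X n E (cokernel u) at a2
  have a3 : del k X n E (cokernel (kernel.ι u)) = del k X n E (kernel (cokernel.π u)) :=
    del_iso k n E (Abelian.coimageIsoImage u)
  rw [hK0, zero_add] at a1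
  rw [hQ0, add_zero, ← a3, ← a1] at a2
  -- `a2 : del E B = del E O_X`
  unfold del at a2
  have e1 : CohB1.tensorMod E B ≅
      (Scheme.Modules.pushforward f).obj ((Scheme.Modules.pullback f).obj E) :=
    (projIsoL f E (Curve.isFinLocFree_of_rank hE)).app (unitMod X') ≪≫
      (Scheme.Modules.pushforward f).mapIso (SecTwist.unitorR _)
  rw [Curve.euler_iso k X e1, euler_push_of_isAffineHom k f _, hB,
    euler_push_of_isAffineHom k f (unitMod X'), Curve.euler_iso k X (SecTwist.unitorR E)] at a2
  unfold Curv2.deg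
  exact a2

end Groth.Agent.H5.DegC
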